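import Cfsg.Agent.Lib.PGroup.UniqueOrderP
import Cfsg.Agent.Lib.PGroup.Omega
import Cfsg.Agent.Lib.PGroup.Power

/-!
# Group lemmas for resistance of rank two p-groups, p ≥ 5

* `aut_prime_trivial`, `mul_inv_mem_of_index_prime`, `exists_fixed` : automorphisms of p-power order;
* `torus` : two transvections of an elementary abelian group of order `p^2` give the torus element `diag(2, 1/2)`;
* `Extra` : groups of order `p^3`, nonabelian; `Extra.exists_inner`;
* `pow_unip` : the `p`-th power of a transvection centralizes.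
-/

set_option linter.style.haveILetI false
set_option linter.unusedSectionVars false
set_option autoImplicit false

open Subgroup
open scoped commutatorElement

universe u

namespace Cfsg.Agent.Resist

variable {p : ℕ} [hp : Fact p.Prime]

/-- An automorphism of p-power order of a group of order `p` is trivial. -/
theorem aut_prime_trivial {Y : Type u} [Group Y] (hY : Nat.card Y = p) (α : MulAut Y) {k : ℕ}
    (hk : α ^ p ^ k = 1) : α = 1 := by
  haveI : Finite Y := Nat.finite_of_card_ne_zero (hY ▸ hp.out.ne_zero)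
  haveI : IsCyclic Y := isCyclic_of_prime_card (p := p) hY
  have h1 : orderOf α ∣ p ^ k := orderOf_dvd_of_pow_eq_one hk
  have h2 : orderOf α ∣ p - 1 := by
    have := orderOf_dvd_natCard α
    rwa [IsCyclic.card_mulAut, hY, Nat.totient_prime hp.out] at this
  have hc : Nat.Coprime (p ^ k) (p - 1) := by
    refine Nat.Coprime.pow_left k ((hp.out.coprime_iff_not_dvd).mpr fun h => ?_)
    have := hp.out.two_le
    have := Nat.le_of_dvd (by omega) h
    omega
  exact orderOf_eq_one_iff.mp (Nat.eq_one_of_dvd_coprimes hc h1 h2)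

/-- An automorphism of p-power order acts trivially on an invariant factor of order `p` on top. -/
theorem mul_inv_mem_of_index_prime {Y : Type u} [Group Y] {N : Subgroup Y} [N.Normal] (hN : N.index = p)
    (α : MulAut Y) {k : ℕ} (hk : α ^ p ^ k = 1) (hα : N.map α.toMonoidHom = N) (y : Y) :
    α y * y⁻¹ ∈ N := by
  let β : MulAut (Y ⧸ N) := QuotientGroup.congr N N α hα
  have hpow : ∀ (n : ℕ) (z : Y), (β ^ n) (z : Y ⧸ N) = ((α ^ n) z : Y) := by
    intro n
    induction n with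
    | zero => intro z; rfl
    | succ n ih => intro z; rw [pow_succ', pow_succ', MulAut.mul_apply, MulAut.mul_apply, ih]; rfl
  have hβ : β ^ p ^ k = 1 := MulEquiv.ext fun q => QuotientGroup.induction_on q fun z => by
    rw [hpow, hk]; rfl
  have h1 : β = 1 := aut_prime_trivial (by rw [← index_eq_card, hN]) β hβ
  have h2 : ((α y : Y) : Y ⧸ N) = (y : Y ⧸ N) := by
    have := hpow 1 y
    rw [pow_one, pow_one, h1] at this
    exact this.symm
  rw [← QuotientGroup.eq_one_iff, QuotientGroup.mk_mul, QuotientGroup.mk_inv, h2, mul_inv_cancel]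

/-- A p-group of automorphisms of a nontrivial p-group fixes a nontrivial element. -/
theorem exists_fixed {V : Type u} [Group V] [Finite V] (hV : IsPGroup p V) [Nontrivial V]
    (P : Subgroup (MulAut V)) (hP : IsPGroup p P) : ∃ v : V, v ≠ 1 ∧ ∀ w ∈ P, w v = v := by
  obtain ⟨n, hn, hc⟩ := hV.nontrivial_iff_card.mp ‹_›
  obtain ⟨b, hb, hne⟩ := hP.exists_fixed_point_of_prime_dvd_card_of_fixed_point V
    (hc ▸ dvd_pow_self p hn.ne') (a := 1) (fun g => map_one (g : MulAut V))
  exact ⟨b, hne.symm, fun w hw => hb ⟨w, hw⟩⟩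

theorem exists_pow_eq {G : Type u} [Group G] {c d : G} (hc : c ^ p = 1) (hd : d ∈ zpowers c) (hd1 : d ≠ 1) :
    ∃ n : ℕ, d ^ n = c := by
  have hc1 : c ≠ 1 := by
    rintro rfl
    simp at hd
    exact hd1 hd
  have hcard : Nat.card (zpowers c) = p := by rw [Nat.card_zpowers, orderOf_eq_prime hc hc1]
  haveI : Finite (zpowers c) := Nat.finite_of_card_ne_zero (hcard ▸ hp.out.ne_zero)
  have htop : zpowers (⟨d, hd⟩ : zpowers c) = ⊤ :=
    zpowers_eq_top_of_prime_card hcard (fun h => hd1 (congrArg Subtype.val h))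
  obtain ⟨n, hn⟩ := mem_powers_iff_mem_zpowers.mpr (htop ▸ mem_top (⟨c, mem_zpowers c⟩ : zpowers c))
  exact ⟨n, congrArg Subtype.val hn⟩

section Plane

variable {V : Type u} [Group V] [Finite V] (hV : Nat.card V = p ^ 2) (hexp : ∀ v : V, v ^ p = 1)
  (hcm : ∀ a b : V, a * b = b * a)

include hV hexp hcm

theorem plane_sup_eq {e1 e2 : V} (h1 : e1 ≠ 1) (h2 : e2 ∉ zpowers e1) : zpowers e1 ⊔ zpowers e2 = ⊤ := by
  refine eq_top_of_le_card _ ?_
  have h := PGroup.mul_card_le_of_lt (IsPGroup.of_card hV) (H := zpowers e1)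
    (K := zpowers e1 ⊔ zpowers e2) (left_lt_sup.2 fun h => h2 (h (mem_zpowers e2)))
  rw [Nat.card_zpowers, orderOf_eq_prime (hexp e1) h1, ← pow_two] at h
  rw [hV]
  exact h

theorem plane_ext {e1 e2 : V} (h1 : e1 ≠ 1) (h2 : e2 ∉ zpowers e1) {w w' : MulAut V}
    (a : w e1 = w' e1) (b : w e2 = w' e2) : w = w' := by
  refine MulEquiv.ext fun v => ?_
  have hle : (⊤ : Subgroup V) ≤ MonoidHom.eqLocus w.toMonoidHom w'.toMonoidHom := by
    rw [← plane_sup_eq hV hexp hcm h1 h2]
    exact sup_le (zpowers_le.mpr a) (zpowers_le.mpr b)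
  exact hle (mem_top v)

/-- A p-element fixing `e1` is a transvection along `e1`. -/
theorem plane_transvection {e1 : V} (h1 : e1 ≠ 1) (w : MulAut V) {k : ℕ} (hk : w ^ p ^ k = 1)
    (hw : w e1 = e1) (v : V) : w v * v⁻¹ ∈ zpowers e1 := by
  haveI : (zpowers e1).Normal := ⟨fun a ha g => by rwa [hcm g a, mul_inv_cancel_right]⟩
  refine mul_inv_mem_of_index_prime ?_ w hk ?_ v
  · have h := (zpowers e1).card_mul_index
    rw [Nat.card_zpowers, orderOf_eq_prime (hexp e1) h1, hV, pow_two] at h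
    exact Nat.eq_of_mul_eq_mul_left hp.out.pos h
  · rw [MonoidHom.map_zpowers]
    exact congrArg zpowers hw

theorem transvection_pow {e1 e2 : V} {u : MulAut V} (hu1 : u e1 = e1) (hu2 : u e2 = e1 * e2) :
    ∀ n : ℕ, (u ^ n) e1 = e1 ∧ (u ^ n) e2 = e1 ^ n * e2 := by
  intro n
  induction n with
  | zero => simp
  | succ n ih =>
    rw [pow_succ', MulAut.mul_apply, MulAut.mul_apply, ih.1, ih.2]
    exact ⟨hu1, by rw [map_mul, map_pow, hu1, hu2, ← mul_assoc, ← pow_succ]⟩

/-- A p-element fixing `e1` is a power of a given transvection. -/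
theorem exists_transvection_pow {e1 e2 : V} (h1 : e1 ≠ 1) (h2 : e2 ∉ zpowers e1) {u w : MulAut V}
    (hu1 : u e1 = e1) (hu2 : u e2 = e1 * e2) {k : ℕ} (hk : w ^ p ^ k = 1) (hw : w e1 = e1) :
    ∃ n : ℕ, w = u ^ n := by
  have hc : Nat.card (zpowers e1) = p := by rw [Nat.card_zpowers, orderOf_eq_prime (hexp e1) h1]
  haveI : Finite (zpowers e1) := inferInstance
  obtain ⟨n, hn⟩ := mem_powers_iff_mem_zpowers.mpr (plane_transvection hV hexp hcm h1 w hk hw e2)
  refine ⟨n, plane_ext hV hexp hcm h1 h2 ?_ ?_⟩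
  · rw [hw, (transvection_pow hV hexp hcm hu1 hu2 n).1]
  · rw [(transvection_pow hV hexp hcm hu1 hu2 n).2, show e1 ^ n = w e2 * e2⁻¹ from hn, inv_mul_cancel_right]

theorem torus_calc (e1 e2 : V) {m : ℕ} (hm : p = 2 * m + 1) :
    ((e1 ^ 2 * e2) ^ m * e1) * ((e1 ^ 2 * e2) ^ m * e1) * (e1 ^ 2 * e2) = e1 ^ 2 ∧
      ((e1 ^ 2 * e2) ^ m * e1)⁻¹ = e2 ^ (m + 1) := by
  letI : CommGroup V := { (inferInstance : Group V) with mul_comm := hcm }
  constructor
  · calc _ = e1 ^ 2 * ((e1 ^ 2 * e2) ^ p) := by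
          rw [hm, pow_succ (e1 ^ 2 * e2), pow_mul', pow_two ((e1 ^ 2 * e2) ^ m), pow_two e1]
          ac_rfl
      _ = e1 ^ 2 := by rw [hexp, mul_one]
  · refine inv_eq_of_mul_eq_one_right ?_
    calc _ = e1 ^ p * e2 ^ p := by
          rw [hm, mul_pow, ← pow_mul, pow_succ e1, pow_succ e2 (2 * m), pow_succ e2 m,
            pow_mul e2, pow_two e2, mul_pow e2 e2]
          simp only [mul_assoc, mul_comm, mul_left_comm]
      _ = 1 := by rw [hexp, hexp, one_mul]

/-- Two transvections give a torus element. -/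
theorem torus (hp5 : 5 ≤ p) (X : Subgroup (MulAut V)) {u : MulAut V} (hu : u ∈ X) {k : ℕ}
    (huk : u ^ p ^ k = 1) (hu1 : u ≠ 1) {e1 : V} (he1 : e1 ≠ 1) (hfix : u e1 = e1)
    (hline : ∃ γ ∈ X, γ e1 ∉ zpowers e1) :
    ∃ (i : ℕ) (e2 : V), e2 ∉ zpowers e1 ∧ (u ^ i) e2 = e1 * e2 ∧
      ∃ φ ∈ X, φ e1 = e1 ^ 2 ∧ φ e2 = e2 ^ ((p + 1) / 2) := by
  obtain ⟨γ, hγ, hγ1⟩ := hline
  set e2 := γ e1 with he2
  have htv := plane_transvection hV hexp hcm he1 u huk hfix
  have hpow : ∀ v n, (u ^ n) v = (u v * v⁻¹) ^ n * v := by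
    intro v n
    induction n with
    | zero => simp
    | succ n ih =>
      have hd : u (u v * v⁻¹) = u v * v⁻¹ := by
        obtain ⟨j, hj⟩ := mem_zpowers_iff.mp (htv v)
        rw [← hj, map_zpow, hfix]
      rw [pow_succ', MulAut.mul_apply, ih, map_mul, map_pow, hd, pow_succ]
      simp [mul_assoc]
  have hne : u e2 * e2⁻¹ ≠ 1 := fun h => hu1 (plane_ext hV hexp hcm he1 hγ1
    (by rw [hfix]; rfl) (by rw [mul_inv_eq_one.mp h]; rfl))
  obtain ⟨i, hi⟩ := exists_pow_eq (hexp e1) (htv e2) hne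
  set v := u ^ i with hv
  have hv2 : v e2 = e1 * e2 := by rw [hv, hpow, hi]
  have hv1 : v e1 = e1 := by rw [hv, hpow, hfix, mul_inv_cancel, one_pow, one_mul]
  set w := γ * v * γ⁻¹ with hw
  have hw2 : w e2 = e2 := by
    rw [hw, he2, MulAut.mul_apply, MulAut.mul_apply, MulAut.inv_apply_self, hv1]
  have hvk : v ^ p ^ k = 1 := by rw [hv, ← pow_mul, mul_comm, pow_mul, huk, one_pow]
  have he21 : e2 ≠ 1 := fun h => hγ1 (h.symm ▸ one_mem _)
  have he12 : e1 ∉ zpowers e2 := fun h => by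
    obtain ⟨n, hn⟩ := exists_pow_eq (hexp e2) h he1
    exact hγ1 (hn ▸ pow_mem (mem_zpowers e1) n)
  have hwk : w ^ p ^ k = 1 := by rw [hw, conj_pow, hvk, mul_one, mul_inv_cancel]
  have hwtv := plane_transvection hV hexp hcm he21 w hwk hw2
  have hne' : w e1 * e1⁻¹ ≠ 1 := fun h => by
    have h1 : w = 1 := plane_ext hV hexp hcm he1 hγ1 (by rw [mul_inv_eq_one.mp h]; rfl) (by rw [hw2]; rfl)
    rw [hw, mul_inv_eq_one] at h1
    have h2 : v = 1 := mul_left_cancel (h1.trans (mul_one γ).symm)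
    have h3 := hv2
    rw [h2, MulAut.one_apply, right_eq_mul] at h3
    exact he1 h3
  obtain ⟨j, hj⟩ := exists_pow_eq (hexp e2) (hwtv e1) hne'
  have hwpow : ∀ n, (w ^ n) e1 = (w e1 * e1⁻¹) ^ n * e1 := by
    intro n
    induction n with
    | zero => simp
    | succ n ih =>
      have hd : w (w e1 * e1⁻¹) = w e1 * e1⁻¹ := by
        obtain ⟨q, hq⟩ := mem_zpowers_iff.mp (hwtv e1)
        rw [← hq, map_zpow, hw2]
      rw [pow_succ', MulAut.mul_apply, ih, map_mul, map_pow, hd, pow_succ]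
      simp [mul_assoc]
  set w' := w ^ j with hw'
  have hw'1 : w' e1 = e2 * e1 := by rw [hw', hwpow, hj]
  have hw'2 : ∀ n, (w' ^ n) e2 = e2 ∧ (w' ^ n) e1 = e2 ^ n * e1 := by
    intro n
    refine transvection_pow hV hexp hcm ?_ hw'1 n
    have hfix2 : ∀ n, (w ^ n) e2 = e2 := fun n => by
      induction n with
      | zero => rfl
      | succ n ih => rw [pow_succ', MulAut.mul_apply, ih, hw2]
    exact hfix2 j
  have hX : v ∈ X ∧ w' ∈ X :=
    ⟨pow_mem hu i, pow_mem (mul_mem (mul_mem hγ (pow_mem hu i)) (inv_mem hγ)) j⟩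
  obtain ⟨m, hm⟩ : ∃ m, p = 2 * m + 1 := hp.out.odd_of_ne_two (by omega)
  refine ⟨i, e2, hγ1, hv2, v ^ 2 * w' ^ m * v * w' * v⁻¹, ?_, ?_, ?_⟩
  · exact mul_mem (mul_mem (mul_mem (mul_mem (pow_mem hX.1 2) (pow_mem hX.2 m)) hX.1) hX.2) (inv_mem hX.1)
  · have h := transvection_pow hV hexp hcm hv1 hv2 2
    have hvi : v⁻¹ e1 = e1 := by
      conv_lhs => rw [← hv1]
      exact MulAut.inv_apply_self V v e1
    simp only [MulAut.mul_apply, hvi, hw'1, map_mul, hv1, hv2, map_pow, (hw'2 m).1, (hw'2 m).2, h.1, h.2]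
    refine Eq.trans ?_ (torus_calc hV hexp hcm e1 e2 hm).1
    letI : CommGroup V := { (inferInstance : Group V) with mul_comm := hcm }
    simp only [mul_assoc, mul_comm, mul_left_comm]
  · have h := transvection_pow hV hexp hcm hv1 hv2 2
    have hvi : v⁻¹ e2 = e1⁻¹ * e2 := by
      have h' : v (e1⁻¹ * e2) = e2 := by rw [map_mul, map_inv, hv1, hv2, inv_mul_cancel_left]
      conv_lhs => rw [← h']
      exact MulAut.inv_apply_self V v _
    have hw'2' : w' e2 = e2 := by simpa using (hw'2 1).1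
    have e : w' (v⁻¹ e2) = e1⁻¹ := by
      rw [hvi, map_mul, map_inv, hw'1, hw'2', mul_inv_rev, inv_mul_cancel_right]
    simp only [MulAut.mul_apply, e, map_inv, hv1, map_mul, map_pow, (hw'2 m).2, h.1, h.2]
    rw [(torus_calc hV hexp hcm e1 e2 hm).2, show (p + 1) / 2 = m + 1 by omega]

end Plane

/-- A nonabelian group of order `p^3`. -/
structure Extra (p : ℕ) (Y : Type u) [Group Y] : Prop where
  card : Nat.card Y = p ^ 3
  center : Nat.card (Subgroup.center Y) = p
  comm : ∀ a b : Y, ⁅a, b⁆ ∈ Subgroup.center Y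
  pow : ∀ y : Y, y ^ p ∈ Subgroup.center Y

variable {Y : Type u} [Group Y] [Finite Y]

theorem extra_of_card (hY : Nat.card Y = p ^ 3) (hnc : ¬ IsMulCommutative Y) : Extra p Y := by
  have hP : IsPGroup p Y := IsPGroup.of_card hY
  obtain ⟨k, hk, hZ⟩ := IsPGroup.card_center_eq_prime_pow hY (by norm_num)
  have hcyc : IsCyclic (Y ⧸ Subgroup.center Y) → False := fun hc =>
    hnc ((QuotientGroup.mk' _).isMulCommutative_of_isCyclic_of_ker_le_center
      (by rw [QuotientGroup.ker_mk']))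
  have hidx := (Subgroup.center Y).card_mul_index
  rw [hZ, hY, index_eq_card] at hidx
  obtain ⟨j, hj⟩ := PGroup.exists_card_eq_pow (hP.to_quotient (Subgroup.center Y))
  rw [hj, ← pow_add] at hidx
  have hkj : k + j = 3 := Nat.pow_right_injective hp.out.two_le hidx
  have hj2 : j = 2 := by
    by_contra hne
    rcases (show j = 0 ∨ j = 1 by omega) with rfl | rfl
    · haveI : Subsingleton (Y ⧸ Subgroup.center Y) := (Nat.card_eq_one_iff_unique.mp (by simpa using hj)).1
      exact hcyc isCyclic_of_subsingleton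
    · exact hcyc (isCyclic_of_prime_card (p := p) (by simpa using hj))
  subst hj2
  refine ⟨hY, by rw [hZ, show k = 1 by omega, pow_one], fun a b => ?_, fun y => ?_⟩
  · rw [← QuotientGroup.eq_one_iff]
    show QuotientGroup.mk' _ ⁅a, b⁆ = 1
    rw [map_commutatorElement, commutatorElement_eq_one_iff_mul_comm]
    exact (IsPGroup.isMulCommutative_of_card_eq_prime_sq hj).is_comm.comm _ _
  · rw [← QuotientGroup.eq_one_iff, QuotientGroup.mk_pow]
    obtain ⟨l, hl, hl'⟩ := (Nat.dvd_prime_pow hp.out).mp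
      (hj ▸ orderOf_dvd_natCard (y : Y ⧸ Subgroup.center Y))
    rcases (show l ≤ 1 ∨ l = 2 by omega) with h | rfl
    · rw [← orderOf_dvd_iff_pow_eq_one, hl']
      exact (pow_dvd_pow p h).trans (by rw [pow_one])
    · exact (hcyc (isCyclic_of_orderOf_eq_card _ (hl'.trans hj.symm))).elim

namespace Extra

variable (d : Extra p Y)

include d

theorem card_quotient : Nat.card (Y ⧸ Subgroup.center Y) = p ^ 2 := by
  have := card_eq_card_quotient_mul_card_subgroup (Subgroup.center Y)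
  rw [d.card, d.center, pow_succ] at this
  exact (Nat.eq_of_mul_eq_mul_right hp.out.pos this).symm

theorem quotient_pow (v : Y ⧸ Subgroup.center Y) : v ^ p = 1 :=
  QuotientGroup.induction_on v fun y => by
    rw [← QuotientGroup.mk_pow]; exact (QuotientGroup.eq_one_iff _).mpr (d.pow y)

theorem quotient_comm (v w : Y ⧸ Subgroup.center Y) : v * w = w * v :=
  (IsPGroup.isMulCommutative_of_card_eq_prime_sq d.card_quotient).is_comm.comm v w

theorem closure_eq_top {H : Subgroup Y} (hZ : Subgroup.center Y ≤ H) {a b : Y} (ha : a ∈ H) (hb : b ∈ H)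
    (hab : ⁅a, b⁆ ≠ 1) : H = ⊤ := by
  have hP : IsPGroup p Y := IsPGroup.of_card d.card
  have haZ : a ∉ Subgroup.center Y := fun h => hab (PGroup.commutator_eq_one_of_mem_center h b)
  have h1 : Subgroup.center Y < Subgroup.center Y ⊔ zpowers a :=
    left_lt_sup.2 fun h => haZ (h (mem_zpowers a))
  have h2 : Subgroup.center Y ⊔ zpowers a < H := by
    refine lt_of_le_of_ne (sup_le hZ (zpowers_le.mpr ha)) fun h => hab ?_
    rw [← h] at hb
    have hle : Subgroup.center Y ⊔ zpowers a ≤ centralizer ({a} : Set Y) :=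
      sup_le (Subgroup.center_le_centralizer _) (zpowers_le.mpr (mem_centralizer_singleton_iff.mpr rfl))
    exact commutatorElement_eq_one_iff_mul_comm.mpr (mem_centralizer_singleton_iff.mp (hle hb)).symm
  have h3 := PGroup.mul_card_le_of_lt hP h1
  have h4 := PGroup.mul_card_le_of_lt hP h2
  rw [d.center] at h3
  refine eq_top_of_le_card H ?_
  calc Nat.card Y = p * (p * p) := by rw [d.card]; ring
    _ ≤ p * Nat.card (Subgroup.center Y ⊔ zpowers a : Subgroup Y) := Nat.mul_le_mul le_rfl h3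
    _ ≤ Nat.card H := h4

theorem exists_gen : ∃ a b : Y, ⁅a, b⁆ ≠ 1 := by
  by_contra h
  push Not at h
  have htop : Subgroup.center Y = ⊤ := eq_top_iff.mpr fun a _ => mem_center_iff.mpr fun b =>
    commutatorElement_eq_one_iff_mul_comm.mp (h b a)
  have h1 := d.center
  rw [htop, card_top, d.card] at h1
  exact absurd (Nat.pow_right_injective hp.out.two_le (h1.trans (pow_one p).symm)) (by norm_num)

/-- An automorphism trivial on the central quotient is inner. -/
theorem exists_inner (α : MulAut Y) (hα : ∀ y, α y * y⁻¹ ∈ Subgroup.center Y) :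
    ∃ h : Y, ∀ y, α y = h * y * h⁻¹ := by
  obtain ⟨a, b, hab⟩ := d.exists_gen
  set z := ⁅a, b⁆ with hz
  have hzpow : ∀ w ∈ Subgroup.center Y, ∃ i : ℕ, z ^ i = w := fun w hw => by
    obtain ⟨i, hi⟩ := mem_powers_iff_mem_zpowers.mpr
      ((zpowers_eq_top_of_prime_card (g := (⟨z, d.comm a b⟩ : Subgroup.center Y)) d.center
        (fun h => hab (congrArg Subtype.val h))).symm ▸ mem_top (⟨w, hw⟩ : Subgroup.center Y))
    exact ⟨i, congrArg Subtype.val hi⟩
  obtain ⟨i, hi⟩ := hzpow _ (hα b)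
  obtain ⟨j, hj⟩ := hzpow _ (inv_mem (hα a))
  set h := a ^ i * b ^ j with hh
  have hcl : ∀ s t r : Y, ⁅s * t, r⁆ = ⁅s, r⁆ * ⁅t, r⁆ := fun s t r => by
    rw [commutatorElement_mul_left_eq_conj_mul, mem_center_iff.mp (d.comm t r) s, mul_inv_cancel_right,
      mem_center_iff.mp (d.comm t r) ⁅s, r⁆]
  have hha : α a = h * a * h⁻¹ := by
    have e : ⁅h, a⁆ = α a * a⁻¹ := by
      rw [hh, hcl, commutatorElement_eq_one_iff_mul_comm.mpr (Commute.pow_self a i).eq, one_mul,
        ← PGroup.classTwo_pow_commutator d.comm, ← commutatorElement_inv, ← hz, inv_pow, hj, inv_inv]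
    rw [commutatorElement_def, mul_left_inj] at e
    exact e.symm
  have hhb : α b = h * b * h⁻¹ := by
    have e : ⁅h, b⁆ = α b * b⁻¹ := by
      rw [hh, hcl, commutatorElement_eq_one_iff_mul_comm.mpr (Commute.pow_self b j).eq, mul_one,
        ← PGroup.classTwo_pow_commutator d.comm, ← hz, hi]
    rw [commutatorElement_def, mul_left_inj] at e
    exact e.symm
  have hαz : α z = z := by
    rw [hz, map_commutatorElement, hha, hhb]
    have : ⁅h * a * h⁻¹, h * b * h⁻¹⁆ = h * ⁅a, b⁆ * h⁻¹ := by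
      simp only [commutatorElement_def]; group
    rw [this, mem_center_iff.mp (d.comm a b) h, mul_inv_cancel_right]
  refine ⟨h, fun y => ?_⟩
  have htop : MonoidHom.eqLocus α.toMonoidHom (MulAut.conj h).toMonoidHom = ⊤ := by
    refine d.closure_eq_top (fun w hw => ?_) hha hhb hab
    obtain ⟨l, rfl⟩ := hzpow w hw
    show α (z ^ l) = h * z ^ l * h⁻¹
    rw [map_pow, hαz, mem_center_iff.mp hw h, mul_inv_cancel_right]
  exact (htop.ge (mem_top y) :)

end Extra

/-- The p-th power of a transvection centralizes. -/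
theorem pow_unip {G : Type u} [Group G] (hp2 : p ≠ 2) {s a b z1 z2 : G} (hz1 : z1 ^ p = 1) (hz2 : z2 ^ p = 1)
    (ha : a ^ p = 1) (c1 : ∀ g, Commute z1 g) (c2 : ∀ g, Commute z2 g)
    (sa : s * a * s⁻¹ = a * z1) (sb : s * b * s⁻¹ = a * b * z2) : Commute (s ^ p) a ∧ Commute (s ^ p) b := by
  have key : ∀ n : ℕ, s ^ n * a * (s ^ n)⁻¹ = a * z1 ^ n ∧
      s ^ n * b * (s ^ n)⁻¹ = a ^ n * b * z2 ^ n * z1 ^ (n.choose 2) := by
    intro n
    induction n with
    | zero => simp
    | succ n ih =>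
      have sz : ∀ g, (∀ t, Commute g t) → s * g * s⁻¹ = g := fun g hg => by
        rw [← (hg s).eq, mul_inv_cancel_right]
      constructor
      · rw [show s ^ (n + 1) * a * (s ^ (n + 1))⁻¹ = s * (s ^ n * a * (s ^ n)⁻¹) * s⁻¹ by
          rw [pow_succ']; group, ih.1, show s * (a * z1 ^ n) * s⁻¹ = (s * a * s⁻¹) * (s * z1 ^ n * s⁻¹) by group,
          sa, sz _ fun t => (c1 t).pow_left n, pow_succ']
        simp [mul_assoc]
      · rw [show s ^ (n + 1) * b * (s ^ (n + 1))⁻¹ = s * (s ^ n * b * (s ^ n)⁻¹) * s⁻¹ by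
          rw [pow_succ']; group, ih.2,
          show s * (a ^ n * b * z2 ^ n * z1 ^ n.choose 2) * s⁻¹ =
            (s * a ^ n * s⁻¹) * (s * b * s⁻¹) * (s * z2 ^ n * s⁻¹) * (s * z1 ^ n.choose 2 * s⁻¹) by group,
          ← conj_pow, sa, sb, sz _ fun t => (c2 t).pow_left n, sz _ fun t => (c1 t).pow_left _,
          (c1 a).symm.mul_pow, Nat.choose_succ_succ, Nat.choose_one_right, pow_add, pow_succ a,
          pow_succ' z2]
        have h1 : ∀ t, Commute (z1 ^ n) t := fun t => (c1 t).pow_left n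
        calc a ^ n * z1 ^ n * (a * b * z2) * z2 ^ n * z1 ^ n.choose 2
            = a ^ n * (z1 ^ n * (a * b * (z2 * z2 ^ n))) * z1 ^ n.choose 2 := by simp only [mul_assoc]
          _ = a ^ n * ((a * b * (z2 * z2 ^ n)) * z1 ^ n) * z1 ^ n.choose 2 := by rw [(h1 _).eq]
          _ = _ := by simp [mul_assoc, pow_add]
  obtain ⟨h1, h2⟩ := key p
  obtain ⟨l, hl⟩ := hp.out.dvd_choose_self (k := 2) (by norm_num)
    (lt_of_le_of_ne hp.out.two_le (Ne.symm hp2))
  rw [hz1, mul_one] at h1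
  rw [ha, hz2, hl, pow_mul, hz1, one_pow, one_mul, mul_one, mul_one] at h2
  exact ⟨mul_inv_eq_iff_eq_mul.mp h1, mul_inv_eq_iff_eq_mul.mp h2⟩

end Cfsg.Agent.Resist
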