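import Cfsg.Agent.Lib.Resist.Basic
import Cfsg.Agent.Lib.Fusion.Essential
import Cfsg.Agent.Lib.Cores.Basic
import Cfsg.Agent.Lib.RankTwo.Auto

/-!
# Essential subgroups acting on a plane

`Act F E V` : a homomorphism `Aut(E) →* Aut(V)` whose kernel meets `Aut_F(E)` in a p-group.
For `V` elementary abelian of order `p^2`: no invariant line, inner automorphisms act trivially, and the
torus element extends to the normalizer (`Act.core`).
-/

set_option linter.style.haveILetI false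
set_option linter.unusedSectionVars false
set_option autoImplicit false

open Subgroup
open scoped commutatorElement

universe u v

namespace Cfsg.Agent.Resist

open Cfsg Cfsg.FusionSystem Cfsg.Agent.Fusion

variable {p : ℕ} [hp : Fact p.Prime]
variable {Ω : Type u} [Group Ω] {S : Subgroup Ω} [Finite S] {F : FusionSystem S} {E : Subgroup Ω}

theorem lt_of_essential (hS : IsPGroup p S) (hF : F.IsSaturated p) (hE : F.IsEssential p E) : E < S := by
  refine lt_of_le_of_ne hE.1.1 ?_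
  rintro rfl
  obtain ⟨-, R, hR⟩ := fullyAutomized_of_fullyNormalized hS hF hE.2.1
  obtain ⟨-, -, hN, H, hH⟩ := hE
  have := finite_mulAut (S := E) (P := E) le_rfl
  have hd := ((StrongPEmb.isStronglyPEmbedded_iff_forall H).mp hH).1
  have heq : autInducedBy E E = Cfsg.Inn E := by
    refine le_antisymm (fun α hα => ?_) (inn_le_autInducedBy le_rfl)
    obtain ⟨g, hg, e⟩ := mem_autInducedBy_iff.1 hα
    exact ⟨⟨g, hg⟩, MulEquiv.ext fun x => Subtype.ext (e x).symm⟩
  rw [heq] at hR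
  rw [← index_eq_card, ← hR] at hd
  exact R.not_dvd_index hd

/-- A normal p-subgroup of `Aut_F(E)` consists of inner automorphisms. -/
theorem le_inn_of_normal (hS : IsPGroup p S) (hE : F.IsEssential p E) (K : Subgroup (MulAut E))
    (hK : K ≤ F.autGroup E) (hn : ∀ γ ∈ F.autGroup E, ∀ α ∈ K, γ * α * γ⁻¹ ∈ K) (hp' : IsPGroup p K) :
    K ≤ Cfsg.Inn E := by
  intro α hα
  have hKn : (K.subgroupOf (F.autGroup E)).Normal := ⟨fun a ha γ => mem_subgroupOf.mpr
    (hn γ γ.2 a (mem_subgroupOf.mp ha))⟩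
  have hKp : IsPGroup p (K.subgroupOf (F.autGroup E)) :=
    hp'.of_equiv (subgroupOfEquivOfLe hK).symm
  have h := mem_map_of_mem (F.autGroup E).subtype
    (Cores.le_pCore hKn hKp (show (⟨α, hK hα⟩ : F.autGroup E) ∈ K.subgroupOf (F.autGroup E) from hα))
  rw [(radical_of_essential hS hE).2] at h
  exact h

theorem mem_of_inn (hE : F.IsEssential p E) {g : normalizerIn S E}
    (h : normConj S E g ∈ Cfsg.Inn E) : (g : Ω) ∈ E :=
  FusionChain.mem_of_conj_mem_inn (FusionChain.centralizerIn_le_of_centric hE.1) g.2.1 hE.1.1 h fun _ => rfl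

theorem normConj_mem (F : FusionSystem S) (hES : E ≤ S) (g : normalizerIn S E) :
    normConj S E g ∈ autInducedBy S E ∧ normConj S E g ∈ F.autGroup E := by
  have h : normConj S E g ∈ autInducedBy S E := range_normConj S E ▸ ⟨g, rfl⟩
  exact ⟨h, autInducedBy_le_autGroup F le_rfl hES h⟩

/-- A map extending `α` transports conjugations as `α` does. -/
theorem map_conj_eq {M : Subgroup Ω} {f : Ω → Ω} (hf : IsMap F M f) (hEM : E ≤ M) {α : MulAut E}
    (hfe : ∀ x ∈ E, f x = autFn α x) {g : normalizerIn S E} (hg : (g : Ω) ∈ M) :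
    ∃ h : f g ∈ normalizerIn S E, normConj S E ⟨f g, h⟩ = α * normConj S E g * α⁻¹ := by
  have e : ∀ x : E, (((α * normConj S E g * α⁻¹) x : E) : Ω) = f g * x * (f g)⁻¹ := by
    intro x
    obtain ⟨y, rfl⟩ := α.surjective x
    rw [MulAut.mul_apply, MulAut.mul_apply, MulAut.inv_apply_self, ← autFn_apply α y.2, ← hfe y y.2,
      ← hf.map_conj hg (hEM y.2), ← autFn_apply α (normConj S E g y).2,
      ← hfe _ (normConj S E g y).2]
    rfl
  exact ⟨mem_normalizerIn_of_aut (hf.mem hg) e, MulEquiv.ext fun x => Subtype.ext (e x).symm⟩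

variable {V : Type v} [Group V] [Finite V]

/-- An action of `Aut(E)` with p-group kernel in `Aut_F(E)`. -/
structure Act (p : ℕ) (F : FusionSystem S) (E : Subgroup Ω) (V : Type v) [Group V] where
  res : MulAut E →* MulAut V
  faithful : ∀ α ∈ F.autGroup E, Nat.Coprime (orderOf α) p → res α = 1 → α = 1

namespace Act

variable (A : Act p F E V) (hS : IsPGroup p S) (hF : F.IsSaturated p) (hE : F.IsEssential p E)

include hS hE

theorem ker_le_inn {α : MulAut E} (hα : α ∈ F.autGroup E) (h : A.res α = 1) : α ∈ Cfsg.Inn E := by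
  have := finite_mulAut (S := S) hE.1.1
  refine le_inn_of_normal hS hE (F.autGroup E ⊓ A.res.ker) inf_le_left (fun γ hγ a ha => ?_) ?_
    ⟨hα, h⟩
  · exact ⟨mul_mem (mul_mem hγ ha.1) (Subgroup.inv_mem _ hγ), (inferInstance : A.res.ker.Normal).conj_mem a ha.2 γ⟩
  · exact RankTwo.isPGroup_of_forall_coprime _ fun k hk hc => A.faithful k hk.1 hc hk.2

/-- The action of `N_S(E)`. -/
def r (_A : Act p F E V) : normalizerIn S E →* MulAut V := _A.res.comp (normConj S E)

theorem r_eq_one {g : normalizerIn S E} (h : A.r g = 1) : (g : Ω) ∈ E :=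
  mem_of_inn hE (A.ker_le_inn hS hE (normConj_mem F hE.1.1 g).2 h)

theorem isPGroup_autS : IsPGroup p ((autInducedBy S E).map A.res) :=
  (isPGroup_autInducedBy hS).map A.res

theorem exists_pow_r (g : normalizerIn S E) : ∃ k : ℕ, A.r g ^ p ^ k = 1 := by
  obtain ⟨k, hk⟩ := hS ⟨g, g.2.1⟩
  refine ⟨k, ?_⟩
  rw [← map_pow, show g ^ p ^ k = 1 from Subtype.ext (congrArg Subtype.val hk :), map_one]

variable (hV : Nat.card V = p ^ 2) (hexp : ∀ v : V, v ^ p = 1) (hcm : ∀ a b : V, a * b = b * a)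

include hF hV hexp hcm

/-- No invariant line. -/
theorem eq_top_of_invariant (L : Subgroup V) (hL : L ≠ ⊥)
    (hinv : ∀ γ ∈ F.autGroup E, ∀ v ∈ L, A.res γ v ∈ L) : L = ⊤ := by
  by_contra hne
  have := finite_mulAut (S := S) hE.1.1
  obtain ⟨⟨e1, he1⟩, hne1⟩ : ∃ v : L, v ≠ 1 := by
    haveI := (Subgroup.nontrivial_iff_ne_bot L).mpr hL
    exact exists_ne 1
  have h1 : e1 ≠ 1 := fun h => hne1 (Subtype.ext h)
  have hL' : L = zpowers e1 := by
    refine (PGroup.eq_of_le_of_card_le (zpowers_le.mpr he1) ?_).symm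
    have hlt := PGroup.mul_card_le_of_lt (IsPGroup.of_card hV) (lt_top_iff_ne_top.mpr hne)
    rw [card_top, hV, pow_two] at hlt
    rw [Nat.card_zpowers, orderOf_eq_prime (hexp e1) h1]
    exact Nat.le_of_mul_le_mul_left hlt hp.out.pos
  let U : Subgroup (MulAut V) :=
    { carrier := {w | w e1 = e1 ∧ ∀ v, w v * v⁻¹ ∈ L}
      one_mem' := ⟨rfl, fun v => by simp⟩
      mul_mem' := by
        rintro a b ⟨a1, a2⟩ ⟨b1, b2⟩
        refine ⟨by rw [MulAut.mul_apply, b1, a1], fun v => ?_⟩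
        rw [MulAut.mul_apply, show a (b v) * v⁻¹ = a (b v) * (b v)⁻¹ * (b v * v⁻¹) by group]
        exact mul_mem (a2 _) (b2 v)
      inv_mem' := by
        rintro a ⟨a1, a2⟩
        refine ⟨?_, fun v => ?_⟩
        · conv_lhs => rw [← a1]
          exact MulAut.inv_apply_self V a e1
        · have h := inv_mem (a2 (a⁻¹ v))
          rw [MulAut.apply_inv_self] at h
          simpa using h }
  have hUp : ∀ w ∈ U, w ^ p = 1 := by
    rintro w ⟨w1, w2⟩
    refine MulEquiv.ext fun v => ?_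
    have hfix : w (w v * v⁻¹) = w v * v⁻¹ := by
      have hmem := w2 v
      rw [hL'] at hmem
      obtain ⟨j, hj⟩ := mem_zpowers_iff.mp hmem
      rw [← hj, map_zpow, w1]
    have h := (transvection_pow hV hexp hcm (u := w) (e1 := w v * v⁻¹) (e2 := v) hfix
      (by rw [inv_mul_cancel_right]) p).2
    rwa [hexp, one_mul] at h
  obtain ⟨g, hgN, hgE⟩ := SetLike.exists_of_lt (lt_normalizerIn hS le_rfl (lt_of_essential hS hF hE))
  refine hgE (mem_of_inn hE (g := ⟨g, hgN⟩) (le_inn_of_normal hS hE (F.autGroup E ⊓ U.comap A.res)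
    inf_le_left ?_ ?_ ⟨(normConj_mem F hE.1.1 _).2, ?_⟩))
  · rintro γ hγ α ⟨hα, a1, a2⟩
    refine ⟨mul_mem (mul_mem hγ hα) (Subgroup.inv_mem _ hγ), ?_, fun v => ?_⟩
    · rw [map_mul, map_mul, map_inv, MulAut.mul_apply, MulAut.mul_apply]
      have hmem := hinv _ (Subgroup.inv_mem _ hγ) e1 he1
      rw [hL', map_inv] at hmem
      obtain ⟨j, hj⟩ := mem_zpowers_iff.mp hmem
      rw [← hj, map_zpow (A.res α), a1, hj, MulAut.apply_inv_self]
    · rw [map_mul, map_mul, map_inv, MulAut.mul_apply, MulAut.mul_apply]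
      have h := hinv γ hγ _ (a2 ((A.res γ)⁻¹ v))
      rwa [map_mul, map_inv, MulAut.apply_inv_self] at h
  · rintro ⟨α, hαF, hαU⟩
    have hmem : α ^ p ∈ F.autGroup E ⊓ A.res.ker :=
      ⟨pow_mem hαF p, MonoidHom.mem_ker.mpr (by rw [map_pow]; exact hUp _ hαU)⟩
    obtain ⟨k, hk⟩ := RankTwo.isPGroup_of_forall_coprime (p := p) (F.autGroup E ⊓ A.res.ker)
      (fun k hk hc => A.faithful k hk.1 hc hk.2) ⟨α ^ p, hmem⟩
    refine ⟨k + 1, Subtype.ext ?_⟩
    rw [SubgroupClass.coe_pow, pow_succ', pow_mul]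
    exact congrArg Subtype.val hk
  · have hg := A.exists_pow_r hS hE ⟨g, hgN⟩
    obtain ⟨k, hk⟩ := hg
    have hwL : ∀ l ∈ L, A.r ⟨g, hgN⟩ l ∈ L := hinv _ (normConj_mem F hE.1.1 _).2
    haveI : L.Normal := ⟨fun a ha b => by rwa [hcm b a, mul_inv_cancel_right]⟩
    have hLc : Nat.card L = p := by rw [hL', Nat.card_zpowers, orderOf_eq_prime (hexp e1) h1]
    have hmap : L.map (A.r ⟨g, hgN⟩).toMonoidHom = L := by
      refine PGroup.eq_of_le_of_card_le ?_ (card_map_of_injective (MulEquiv.injective _)).ge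
      rintro _ ⟨l, hl, rfl⟩
      exact hwL l hl
    have hidx : L.index = p := by
      have h := L.card_mul_index
      rw [hLc, hV, pow_two] at h
      exact Nat.eq_of_mul_eq_mul_left hp.out.pos h
    refine ⟨?_, fun v => mul_inv_mem_of_index_prime hidx _ hk hmap v⟩
    -- the restriction to the line
    let β : MulAut L :=
      MulEquiv.ofBijective (MonoidHom.mk' (fun x : L => (⟨A.r ⟨g, hgN⟩ x, hwL x x.2⟩ : L))
          fun a b => Subtype.ext (map_mul (A.r ⟨g, hgN⟩) (a : V) b))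
        (Finite.injective_iff_bijective.mp fun a b e => Subtype.ext ((A.r ⟨g, hgN⟩).injective
          (congrArg Subtype.val e)))
    have hpow : ∀ n (x : L), (((β ^ n) x : L) : V) = (A.r ⟨g, hgN⟩ ^ n) x := by
      intro n
      induction n with
      | zero => intro x; rfl
      | succ n ih => intro x; rw [pow_succ', pow_succ', MulAut.mul_apply, MulAut.mul_apply, ← ih]; rfl
    have hβ : β ^ p ^ k = 1 := MulEquiv.ext fun x => Subtype.ext (by rw [hpow, hk]; rfl)
    have h2 := hpow 1 ⟨e1, he1⟩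
    rw [aut_prime_trivial hLc β hβ, pow_one] at h2
    exact h2.symm

theorem inn_trivial {α : MulAut E} (hα : α ∈ Cfsg.Inn E) : A.res α = 1 := by
  have hES := hE.1.1
  have := finite_of_le (S := S) hES
  haveI : Nontrivial V := Finite.one_lt_card_iff_nontrivial.mp
    (by rw [hV]; exact Nat.one_lt_pow two_ne_zero hp.out.one_lt)
  obtain ⟨v, hv1, hv⟩ := exists_fixed (IsPGroup.of_card hV) ((Cfsg.Inn E).map A.res)
    (((isPGroup_autInducedBy (P := E) hS).to_le (inn_le_autInducedBy hES)).map A.res)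
  let L : Subgroup V :=
    { carrier := {v | ∀ β ∈ Cfsg.Inn E, A.res β v = v}
      one_mem' := fun β _ => map_one _
      mul_mem' := fun ha hb β hβ => by rw [map_mul, ha β hβ, hb β hβ]
      inv_mem' := fun ha β hβ => by rw [map_inv, ha β hβ] }
  have hL : L ≠ ⊥ := fun h => hv1 (mem_bot.mp (h ▸ (show v ∈ L from fun β hβ => hv _ (mem_map_of_mem _ hβ))))
  have htop := A.eq_top_of_invariant hS hF hE hV hexp hcm L hL fun γ _ w hw β hβ => by
    have h := hw _ ((Cfsg.innNormal E).conj_mem β hβ γ⁻¹)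
    rw [map_mul, map_mul, map_inv, MulAut.mul_apply, MulAut.mul_apply, inv_inv] at h
    have h' := congrArg (A.res γ) h
    rwa [MulAut.apply_inv_self] at h'
  exact MulEquiv.ext fun w => (htop.ge (mem_top w) : w ∈ L) α hα

theorem r_eq_one_iff {g : normalizerIn S E} : A.r g = 1 ↔ (g : Ω) ∈ E :=
  ⟨A.r_eq_one hS hE, fun h => A.inn_trivial hS hF hE hV hexp hcm ⟨⟨g, h⟩, MulEquiv.ext fun _ => Subtype.ext rfl⟩⟩

/-- The torus element and its extension to `N_S(E)`. -/
theorem core (hp5 : 5 ≤ p) {g : normalizerIn S E} (hg : (g : Ω) ∉ E) :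
    ∃ (i : ℕ) (e1 e2 : V), e1 ≠ 1 ∧ e2 ∉ zpowers e1 ∧ ((g ^ i : normalizerIn S E) : Ω) ∉ E ∧
      (∀ v, A.r g v = v → v ∈ zpowers e1) ∧
      A.r (g ^ i) e1 = e1 ∧ A.r (g ^ i) e2 = e1 * e2 ∧
      (∀ s : normalizerIn S E, ∃ n : ℕ, ((s * ((g ^ i) ^ n)⁻¹ : normalizerIn S E) : Ω) ∈ E) ∧
      ∃ φ ∈ F.autGroup E, A.res φ e1 = e1 ^ 2 ∧ A.res φ e2 = e2 ^ ((p + 1) / 2) ∧
        ∃ f : Ω → Ω, IsMap F (normalizerIn S E) f ∧ (∀ x ∈ E, f x = autFn φ x) ∧
          ∃ h : f ((g ^ i : normalizerIn S E) : Ω) ∈ normalizerIn S E,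
            ((⟨_, h⟩ * ((g ^ i) ^ 4)⁻¹ : normalizerIn S E) : Ω) ∈ E := by
  have hES := hE.1.1
  have := finite_mulAut (S := S) hES
  haveI : Nontrivial V := Finite.one_lt_card_iff_nontrivial.mp
    (by rw [hV]; exact Nat.one_lt_pow two_ne_zero hp.out.one_lt)
  obtain ⟨e1, he1, hfix⟩ := exists_fixed (IsPGroup.of_card hV) _ (A.isPGroup_autS hS hE)
  have hfix' : ∀ s, A.r s e1 = e1 := fun s => hfix _ (mem_map_of_mem _ (normConj_mem F hES s).1)
  set u := A.r g with hu
  obtain ⟨k, hk⟩ := A.exists_pow_r hS hE g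
  have hu1 : u ≠ 1 := fun h => hg (A.r_eq_one hS hE h)
  have hline : ∃ γ ∈ (F.autGroup E).map A.res, γ e1 ∉ zpowers e1 := by
    by_contra hcon
    push Not at hcon
    have htop := A.eq_top_of_invariant hS hF hE hV hexp hcm (zpowers e1) (by simpa using he1)
      fun γ hγ v hv => by
        obtain ⟨j, rfl⟩ := mem_zpowers_iff.mp hv
        rw [map_zpow]
        exact zpow_mem (hcon _ (mem_map_of_mem _ hγ)) j
    have h1 := congrArg (fun H : Subgroup V => Nat.card H) htop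
    simp only [Nat.card_zpowers, orderOf_eq_prime (hexp e1) he1, card_top, hV] at h1
    exact absurd (Nat.pow_right_injective hp.out.two_le ((pow_one p).trans h1)) (by norm_num)
  obtain ⟨i, e2, he2, hi, _, ⟨φ, hφ, rfl⟩, hφ1, hφ2⟩ := torus hV hexp hcm hp5 ((F.autGroup E).map A.res)
    (mem_map_of_mem _ (normConj_mem F hES g).2) hk hu1 he1 (hfix' g) hline
  have hi' : A.r (g ^ i) e2 = e1 * e2 := by rw [map_pow]; exact hi
  have hall : ∀ s, ∃ n : ℕ, A.r s = A.r (g ^ i) ^ n := fun s => by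
    obtain ⟨k', hk'⟩ := A.exists_pow_r hS hE s
    exact exists_transvection_pow hV hexp hcm he1 he2 (hfix' _) hi' hk' (hfix' s)
  have hgi : ((g ^ i : normalizerIn S E) : Ω) ∉ E := fun h => by
    have h1 := hi'
    rw [(A.r_eq_one_iff hS hF hE hV hexp hcm).mpr h, MulAut.one_apply, right_eq_mul] at h1
    exact he1 h1
  refine ⟨i, e1, e2, he1, he2, hgi, fun v hv => ?_, hfix' _, hi', fun s => ?_, φ, hφ, hφ1, hφ2, ?_⟩
  · by_contra hne
    exact hu1 (plane_ext hV hexp hcm he1 hne (by rw [hfix']; rfl) (by rw [hv]; rfl))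
  · obtain ⟨n, hn⟩ := hall s
    refine ⟨n, A.r_eq_one hS hE ?_⟩
    rw [map_mul, map_inv, map_pow, hn, mul_inv_cancel]
  have hconj : A.res φ * A.r (g ^ i) * (A.res φ)⁻¹ = A.r (g ^ i) ^ 4 := by
    rw [mul_inv_eq_iff_eq_mul]
    refine plane_ext hV hexp hcm he1 he2 ?_ ?_
    · rw [MulAut.mul_apply, MulAut.mul_apply, hfix', hφ1, map_pow,
        (transvection_pow hV hexp hcm (hfix' _) hi' 4).1]
    · rw [MulAut.mul_apply, MulAut.mul_apply, hi', map_mul, hφ1, hφ2, map_pow,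
        (transvection_pow hV hexp hcm (hfix' _) hi' 4).2, Commute.mul_pow (hcm _ _), ← pow_mul]
      congr 1
      obtain ⟨m, hm⟩ : ∃ m, p = 2 * m + 1 := hp.out.odd_of_ne_two (by omega)
      rw [show 4 * ((p + 1) / 2) = 2 + p * 2 by omega, pow_add, pow_mul, hexp, one_pow, mul_one]
  have hS' : ∀ s (hs : s ∈ normalizerIn S E),
      φ * normConj S E ⟨s, hs⟩ * φ⁻¹ ∈ autInducedBy S E := by
    intro s hs
    obtain ⟨n, hn⟩ := hall ⟨s, hs⟩
    set t := normConj S E (((g ^ i) ^ 4) ^ n) with ht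
    have hker : A.res (φ * normConj S E ⟨s, hs⟩ * φ⁻¹ * t⁻¹) = 1 := by
      rw [map_mul, map_mul, map_mul, map_inv, map_inv, mul_inv_eq_one]
      show A.res φ * A.r ⟨s, hs⟩ * (A.res φ)⁻¹ = A.r (((g ^ i) ^ 4) ^ n)
      rw [hn, ← conj_pow, hconj, map_pow (A.r) ((g ^ i) ^ 4) n, map_pow (A.r) (g ^ i) 4]
    have hmem := A.ker_le_inn hS hE (mul_mem (mul_mem (mul_mem hφ (normConj_mem F hES _).2) (Subgroup.inv_mem _ hφ))
      (inv_mem (normConj_mem F hES _).2)) hker
    have h := mul_mem (inn_le_autInducedBy hES hmem) (normConj_mem F hES (((g ^ i) ^ 4) ^ n)).1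
    rwa [inv_mul_cancel_right] at h
  obtain ⟨f, hf, hfe⟩ := FusionChain.exists_extension (receptive_of_fullyNormalized hS hF hE.2.1) hφ
    (le_refl (normalizerIn S E)) hS'
  have hle : E ≤ normalizerIn S E := le_normalizerIn hES
  have hfN := hf.mono (le_sup_right : normalizerIn S E ≤ E ⊔ normalizerIn S E)
  obtain ⟨h, he⟩ := map_conj_eq hfN hle hfe (g := g ^ i) (g ^ i).2
  refine ⟨f, hfN, hfe, h, A.r_eq_one hS hE ?_⟩
  rw [map_mul, map_inv, mul_inv_eq_one, map_pow]
  show A.res (normConj S E ⟨_, h⟩) = _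
  rw [he, map_mul, map_mul, map_inv]
  exact hconj

end Act

end Cfsg.Agent.Resist
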