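import Cfsg.Agent.Lib.Resist.CaseB
import Cfsg.Agent.Lib.PGroup.MaximalClass

/-!
# An essential subgroup containing `Ω₁(S)` of order `p^3`

`caseA` : impossible for `p ≥ 5` and rank at most two.
-/

set_option linter.style.haveILetI false
set_option linter.unusedSectionVars false
set_option autoImplicit false

open Subgroup
open scoped commutatorElement

universe u

namespace Cfsg.Agent.Resist

open Cfsg Cfsg.FusionSystem Cfsg.Agent.Fusion

variable {p : ℕ} [hp : Fact p.Prime]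
variable {Ω : Type u} [Group Ω] {S : Subgroup Ω} [Finite S] {F : FusionSystem S} {E : Subgroup Ω}

theorem pRankLE_of_injective {G H : Type*} [Group G] [Group H] [Finite H] (f : G →* H)
    (hf : Function.Injective f) {k : ℕ} (hr : Cfsg.PRankLE p k H) : Cfsg.PRankLE p k G := by
  intro A hA hAe
  have := hr (A.map f) (Subgroup.map_isMulCommutative _ _) (by
    rintro _ ⟨a, ha, rfl⟩
    rw [← map_pow, hAe a ha, map_one])
  rwa [card_map_of_injective hf] at this

/-- In a cyclic group a non-generator is a `p`-th power. -/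
theorem exists_root {G : Type u} [Group G] [Finite G] (hG : IsPGroup p G) {C : Subgroup G} (hC : IsCyclic C)
    {x : G} (hx : x ∈ C) (hne : zpowers x ≠ C) : ∃ d ∈ C, d ^ p = x := by
  obtain ⟨c, rfl⟩ := (Subgroup.isCyclic_iff_exists_zpowers_eq_top C).mp hC
  obtain ⟨i, rfl⟩ := mem_powers_iff_mem_zpowers.mpr hx
  by_cases hd : p ∣ i
  · obtain ⟨j, rfl⟩ := hd
    exact ⟨c ^ j, pow_mem (mem_zpowers c) j, by rw [← pow_mul, mul_comm]⟩
  · refine absurd (PGroup.eq_of_le_of_card_le (zpowers_le.mpr hx) ?_) hne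
    obtain ⟨k, hk⟩ := IsPGroup.iff_orderOf.mp hG c
    rw [Nat.card_zpowers, Nat.card_zpowers]
    show orderOf c ≤ orderOf (c ^ i)
    rw [Nat.Coprime.orderOf_pow (hk ▸ Nat.Coprime.pow_left k ((hp.out.coprime_iff_not_dvd).mpr hd))]

theorem aut_mem_center {Y : Type u} [Group Y] (γ : MulAut Y) {c : Y} (hc : c ∈ Subgroup.center Y) :
    γ c ∈ Subgroup.center Y := mem_center_iff.mpr fun t => by
  obtain ⟨t, rfl⟩ := γ.surjective t
  rw [← map_mul, ← map_mul, mem_center_iff.mp hc t]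

set_option maxHeartbeats 1600000 in
theorem caseA (hp5 : 5 ≤ p) (hS : IsPGroup p S) (hF : F.IsSaturated p) (hE : F.IsEssential p E)
    (hr : Cfsg.PRankLE p 2 S) (h3 : Nat.card (RankTwo.omegaOne p E) = p ^ 3) : False := by
  have hES := hE.1.1
  have := finite_of_le (S := S) hES
  have := finite_mulAut (S := S) hES
  have hp3 : 3 < p := by omega
  have hEP : IsPGroup p E := hS.to_le hES
  set ι := Subgroup.inclusion hES with hι
  have hιinj : Function.Injective ι := Subgroup.inclusion_injective hES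
  have hrE : Cfsg.PRankLE p 2 E := pRankLE_of_injective ι hιinj hr
  set Y0 := RankTwo.omegaOne p E with hY0
  have d : Extra p Y0 := extra_of_card h3 (RankTwo.omega_facts hp3 hEP hrE h3).1
  let ρ := (RankTwo.quotientAut (Subgroup.center Y0)).comp (RankTwo.restrictAut Y0)
  have hρker : ∀ α : MulAut E, ρ α = 1 → ∃ h : Y0, ∀ y : Y0, α (y : E) = h * y * (h : E)⁻¹ := by
    intro α hα
    obtain ⟨h, hh⟩ := d.exists_inner (RankTwo.restrictAut Y0 α) fun y => (QuotientGroup.eq_one_iff _).mp (by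
      show QuotientGroup.mk' _ (RankTwo.restrictAut Y0 α y * y⁻¹) = 1
      rw [map_mul, map_inv, mul_inv_eq_one]
      exact DFunLike.congr_fun hα (QuotientGroup.mk' _ y))
    exact ⟨h, fun y => congrArg Subtype.val (hh y)⟩
  let A : Act p F E (Y0 ⧸ Subgroup.center Y0) := ⟨ρ, fun α _ hco hα => by
    obtain ⟨h, hh⟩ := hρker α hα
    refine PGroup.aut_eq_one_of_fix_omega (by omega) hEP hco ?_
    have h1 : RankTwo.restrictAut Y0 α = MulAut.conj h :=
      MulEquiv.ext fun y => Subtype.ext (hh y)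
    obtain ⟨k, hk⟩ := (hEP.to_subgroup Y0) h
    have h2 : orderOf (RankTwo.restrictAut Y0 α) ∣ p ^ k := by
      rw [h1]
      exact orderOf_dvd_of_pow_eq_one (by rw [← map_pow, hk, map_one])
    have h3' : RankTwo.restrictAut Y0 α = 1 := orderOf_eq_one_iff.mp
      (Nat.eq_one_of_dvd_coprimes (Nat.Coprime.pow_right k hco) (orderOf_map_dvd _ α) h2)
    intro y hy
    exact congrArg Subtype.val (DFunLike.congr_fun h3' (⟨y, RankTwo.mem_omegaOne hy⟩ : Y0))⟩
  have hWc := d.card_quotient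
  have hWe := d.quotient_pow
  have hWm := d.quotient_comm
  let π := QuotientGroup.mk' (Subgroup.center Y0)
  set j : Y0 →* S := ι.comp Y0.subtype with hj
  have hjinj : Function.Injective j := hιinj.comp Y0.subtype_injective
  -- `Ω₁(S)`
  set ΩS := RankTwo.omegaOne p S with hΩS
  have hjΩ : j.range = ΩS := by
    refine PGroup.eq_of_le_of_card_le ?_ ?_
    · rintro _ ⟨y, rfl⟩
      refine RankTwo.mem_omegaOne ?_
      rw [← map_pow, show y ^ p = 1 from Subtype.ext (by simpa using RankTwo.omega_exp hp3 hEP hrE y.2), map_one]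
    · rw [Nat.card_congr (j.ofInjective hjinj).toEquiv.symm, h3]
      exact card_omegaOne_le hp3 hS hr
  have hΩ3 : Nat.card ΩS = p ^ 3 := by rw [← hjΩ, Nat.card_congr (j.ofInjective hjinj).toEquiv.symm, h3]
  obtain ⟨-, hTc, -, hΩTc, -⟩ := RankTwo.omega_facts hp3 hS hr hΩ3
  set T := centralizer (ΩS : Set S) with hT
  set E' := E.subgroupOf S with hE'
  have hΩE : ΩS ≤ E' := by
    rw [← hjΩ]
    rintro _ ⟨y, rfl⟩
    exact (y : E).2
  -- `E = Ω₁ C(Ω₁)`
  have hdec : ∀ e : E, ∃ h : Y0, (ι (h : E))⁻¹ * ι e ∈ T := by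
    intro e
    obtain ⟨h, hh⟩ := hρker (MulAut.conj e) (A.inn_trivial hS hF hE hWc hWe hWm ⟨e, rfl⟩)
    refine ⟨h, ?_⟩
    rw [hT, ← hjΩ]
    rintro _ ⟨y, rfl⟩
    show ι (y : E) * ((ι (h : E))⁻¹ * ι e) = (ι (h : E))⁻¹ * ι e * ι (y : E)
    rw [← map_inv, ← map_mul, ← map_mul, ← map_mul]
    congr 1
    have h1 : e * (y : E) * e⁻¹ = (h : E) * y * (h : E)⁻¹ := hh y
    symm
    calc (h : E)⁻¹ * e * y = (h : E)⁻¹ * (e * y * e⁻¹) * e := by group
      _ = y * ((h : E)⁻¹ * e) := by rw [h1]; group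
  have hTE : T ≤ E' := by
    intro t ht
    refine FusionChain.centralizerIn_le_of_centric hE.1 ⟨t.2, fun e he => ?_⟩
    obtain ⟨h, hh⟩ := hdec ⟨e, he⟩
    have hc1 : ι (h : E) * t = t * ι (h : E) := mem_centralizer_iff.mp ht _ (hjΩ ▸ ⟨h, rfl⟩)
    have hc2 : (ι (h : E))⁻¹ * ι ⟨e, he⟩ * t = t * ((ι (h : E))⁻¹ * ι ⟨e, he⟩) :=
      congrArg Subtype.val (hTc.isMulCommutative.is_comm.comm (⟨_, hh⟩ : T) ⟨t, ht⟩) |> fun q => q
    have hc3 : Commute (ι ⟨e, he⟩) t := by
      have := (show Commute (ι (h : E)) t from hc1).mul_left hc2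
      rwa [mul_inv_cancel_left] at this
    exact congrArg Subtype.val hc3.eq
  have hsup : E' = ΩS ⊔ T := by
    refine le_antisymm (fun s hs => ?_) (sup_le hΩE hTE)
    obtain ⟨h, hh⟩ := hdec ⟨s, hs⟩
    rw [show s = ι (h : E) * ((ι (h : E))⁻¹ * s) by group]
    exact mul_mem_sup (hjΩ ▸ ⟨h, rfl⟩) hh
  have hE'n : E'.Normal := by rw [hsup]; infer_instance
  have hNS : normalizerIn S E = S := le_antisymm inf_le_left fun s hs =>
    mem_normalizerIn_of_conj hs fun e he => hE'n.conj_mem ⟨e, hES he⟩ he ⟨s, hs⟩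
  obtain ⟨g₀, hg₀N, hg₀E⟩ := SetLike.exists_of_lt (lt_normalizerIn hS le_rfl (lt_of_essential hS hF hE))
  obtain ⟨i, e1, e2, he1, he2, hgi, -, hr1, hr2, hgen, φ, hφ, hφ1, hφ2, f, hf, hfe, hfh, hfg⟩ :=
    A.core hS hF hE hWc hWe hWm hp5 (g := ⟨g₀, hg₀N⟩) hg₀E
  set gN : normalizerIn S E := ⟨g₀, hg₀N⟩ ^ i with hgN
  set s₁ : S := ⟨(gN : Ω), gN.2.1⟩ with hs₁
  have hs₁E : s₁ ∉ E' := hgi
  obtain ⟨a, rfl⟩ := QuotientGroup.mk'_surjective _ e1
  obtain ⟨b, rfl⟩ := QuotientGroup.mk'_surjective _ e2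
  have hab : ⁅a, b⁆ ≠ 1 := by
    intro h
    apply he2
    have hle : centralizer ({a} : Set Y0) = ⊤ → False := fun htop => he1 ((QuotientGroup.eq_one_iff a).mpr
      (mem_center_iff.mpr fun t => mem_centralizer_singleton_iff.mp (htop.ge (mem_top t))))
    by_contra hne
    refine hle ?_
    have hπ : Subgroup.map π (centralizer ({a} : Set Y0)) = ⊤ := by
      rw [eq_top_iff, ← plane_sup_eq hWc hWe hWm he1 hne]
      refine sup_le (zpowers_le.mpr (mem_map_of_mem π ?_)) (zpowers_le.mpr (mem_map_of_mem π ?_))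
      · exact mem_centralizer_singleton_iff.mpr rfl
      · exact mem_centralizer_singleton_iff.mpr (commutatorElement_eq_one_iff_mul_comm.mp h).symm
    have := congrArg (Subgroup.comap π) hπ
    rw [comap_map_eq_self (by rw [QuotientGroup.ker_mk']; exact Subgroup.center_le_centralizer _),
      comap_top] at this
    exact this
  -- centre of `Ω₁`
  have hjc : ∀ c ∈ Subgroup.center Y0, j c ∈ ΩS ⊓ T ∧ j c ∈ Subgroup.center S := by
    intro c hc
    have hmem : j c ∈ ΩS ⊓ T := by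
      refine ⟨hjΩ ▸ ⟨c, rfl⟩, ?_⟩
      rw [hT, ← hjΩ]
      rintro _ ⟨y, rfl⟩
      rw [← map_mul, ← map_mul, mem_center_iff.mp hc y]
    exact ⟨hmem, hΩTc hmem⟩
  have hjp : ∀ y : Y0, j y ^ p = 1 := fun y => by
    rw [← map_pow, show y ^ p = 1 from Subtype.ext (by simpa using RankTwo.omega_exp hp3 hEP hrE y.2), map_one]
  have hrel : ∀ (y y' : Y0), A.r gN (π y) = π y' →
      ∃ c ∈ Subgroup.center Y0, s₁ * j y * s₁⁻¹ = j y' * j c := by
    intro y y' e
    have e' : π (RankTwo.restrictAut Y0 (normConj S E gN) y) = π y' := e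
    refine ⟨y'⁻¹ * RankTwo.restrictAut Y0 (normConj S E gN) y, QuotientGroup.eq.mp e'.symm, ?_⟩
    rw [map_mul, map_inv, mul_inv_cancel_left]
    rfl
  obtain ⟨c₁, hc₁, hsa⟩ := hrel a a hr1
  obtain ⟨c₂, hc₂, hsb⟩ := hrel b (a * b) (by rw [map_mul]; exact hr2)
  rw [map_mul] at hsb
  have hjcp : ∀ c ∈ Subgroup.center Y0, ∀ t : S, Commute (j c) t := fun c hc t =>
    (mem_center_iff.mp (hjc c hc).2 t).symm
  obtain ⟨hpa, hpb⟩ := pow_unip (by omega) (hjp c₁) (hjp c₂) (hjp a) (hjcp c₁ hc₁) (hjcp c₂ hc₂) hsa hsb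
  set c := s₁ ^ p with hc
  have hcT : c ∈ T := by
    rw [hT, ← hjΩ]
    rintro _ ⟨y, rfl⟩
    have htop : (centralizer ({c} : Set S)).comap j = ⊤ := d.closure_eq_top
      (fun w hw => mem_comap.mpr (Subgroup.center_le_centralizer _ (hjc w hw).2))
      (mem_centralizer_singleton_iff.mpr hpa.eq.symm) (mem_centralizer_singleton_iff.mpr hpb.eq.symm) hab
    exact mem_centralizer_singleton_iff.mp (mem_comap.mp (htop.ge (mem_top y)))
  have hTgen : zpowers c = T := by
    by_contra hne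
    obtain ⟨d', hd', hdp⟩ := exists_root hS hTc hcT hne
    set k := ⁅s₁, d'⁆ with hk
    have hkT : k ∈ T := by
      have hn : T.Normal := inferInstance
      exact mul_mem (hn.conj_mem d' hd' s₁) (inv_mem hd')
    have hkp : k ^ p = 1 := by
      have h1 : s₁ * d' * s₁⁻¹ = k * d' := by rw [hk, commutatorElement_def]; group
      have h2 : (k * d') ^ p = d' ^ p := by
        rw [← h1, conj_pow, hdp, hc, mul_inv_eq_iff_eq_mul]
        exact (Commute.self_pow s₁ p).eq
      rwa [Commute.mul_pow (congrArg Subtype.val (hTc.isMulCommutative.is_comm.comm ⟨k, hkT⟩ ⟨d', hd'⟩) :), mul_eq_right] at h2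
    have hkc : k ∈ Subgroup.center S := hΩTc ⟨RankTwo.mem_omegaOne hkp, hkT⟩
    have hk' : ⁅d'⁻¹, s₁⁆ = k := by
      have h1 : s₁ * d' * s₁⁻¹ = k * d' := by rw [hk, commutatorElement_def]; group
      calc ⁅d'⁻¹, s₁⁆ = d'⁻¹ * (s₁ * d' * s₁⁻¹) := by rw [commutatorElement_def]; group
        _ = k := by rw [h1, mem_center_iff.mp hkc d'⁻¹ |> fun q => show d'⁻¹ * (k * d') = k by
              rw [← mul_assoc, q, inv_mul_cancel_right]]
    have hcom : ∀ t : S, Commute t ⁅d'⁻¹, s₁⁆ := fun t => hk' ▸ (mem_center_iff.mp hkc t)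
    have hy : (s₁ * d'⁻¹) ^ p = 1 := by
      rw [PGroup.mul_pow_prime_eq hp.out (by omega) (hcom _) (hcom _) (by rw [hk']; exact hkp), inv_pow, hdp]
      exact mul_inv_cancel _
    have := mul_mem (hΩE (RankTwo.mem_omegaOne hy)) (hTE hd')
    rw [inv_mul_cancel_right] at this
    exact hs₁E this
  -- `S` is generated by `s₁` and `b`
  set H := closure ({s₁, j b} : Set S) with hH
  have hs₁H : s₁ ∈ H := subset_closure (Set.mem_insert _ _)
  have hbH : j b ∈ H := subset_closure (Set.mem_insert_of_mem _ rfl)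
  have hTH : T ≤ H := hTgen ▸ zpowers_le.mpr (pow_mem hs₁H p)
  have hcH : ∀ w ∈ Subgroup.center Y0, j w ∈ H := fun w hw => hTH (hjc w hw).1.2
  have haH : j a ∈ H := by
    rw [show j a = s₁ * j b * s₁⁻¹ * (j c₂)⁻¹ * (j b)⁻¹ by rw [hsb, mul_inv_cancel_right, mul_inv_cancel_right]]
    exact mul_mem (mul_mem (mul_mem (mul_mem hs₁H hbH) (inv_mem hs₁H)) (inv_mem (hcH c₂ hc₂))) (inv_mem hbH)
  have hΩH : ΩS ≤ H := by
    rw [← hjΩ]
    rintro _ ⟨y, rfl⟩
    exact mem_comap.mp ((d.closure_eq_top (H := H.comap j) (fun w hw => hcH w hw) haH hbH hab).ge (mem_top y))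
  have hHtop : H = ⊤ := by
    rw [eq_top_iff]
    intro s _
    obtain ⟨n, hn⟩ := hgen ⟨(s : Ω), hNS.ge s.2⟩
    have h1 : s * (s₁ ^ n)⁻¹ ∈ E' := by
      simpa [hE', mem_subgroupOf, hs₁] using hn
    rw [show s = s * (s₁ ^ n)⁻¹ * s₁ ^ n by rw [inv_mul_cancel_right]]
    exact mul_mem (sup_le hΩH hTH (hsup ▸ h1)) (pow_mem hs₁H n)
  set M := ((Subgroup.center Y0).map j) ⊔ zpowers (j a) with hM
  have hMg : ∀ t : S, t * j a * t⁻¹ ∈ M → ∀ u ∈ M, t * u * t⁻¹ ∈ M := by
    intro t ht u hu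
    have hle : M ≤ M.comap (MulAut.conj t).toMonoidHom := by
      refine sup_le ?_ (zpowers_le.mpr (mem_comap.mpr ht))
      rintro _ ⟨w, hw, rfl⟩
      refine mem_comap.mpr ?_
      show t * j w * t⁻¹ ∈ M
      rw [(hjcp w hw t).symm.eq, mul_inv_cancel_right]
      exact mem_sup_left (mem_map_of_mem j hw)
    exact hle hu
  have hMn : M.Normal := by
    rw [← normalizer_eq_top_iff, eq_top_iff, ← hHtop, hH, closure_le]
    have hs : s₁ * j a * s₁⁻¹ ∈ M := by
      rw [hsa]; exact mul_mem (mem_sup_right (mem_zpowers _)) (mem_sup_left (mem_map_of_mem j hc₁))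
    have hb : j b * j a * (j b)⁻¹ ∈ M := by
      rw [← map_mul, ← map_inv, ← map_mul,
        show b * a * b⁻¹ = ⁅b, a⁆ * a by rw [commutatorElement_def]; group, map_mul]
      exact mul_mem (mem_sup_left (mem_map_of_mem j (d.comm b a))) (mem_sup_right (mem_zpowers _))
    rintro t (rfl | rfl)
    · exact PGroup.mem_normalizer_of_conj_le (hMg _ hs)
    · exact PGroup.mem_normalizer_of_conj_le (hMg _ hb)
  have hcomm : ∀ u v : S, ⁅u, v⁆ ∈ M := by
    refine PGroup.commutator_mem_of_generators hHtop ?_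
    rw [← commutatorElement_inv, commutatorElement_def, hsb,
      show j a * j b * j c₂ * (j b)⁻¹ = j a * j c₂ by
        rw [mul_assoc (j a * j b), (hjcp c₂ hc₂ _).eq, ← mul_assoc, mul_inv_cancel_right]]
    exact inv_mem (mul_mem (mem_sup_right (mem_zpowers _)) (mem_sup_left (mem_map_of_mem j hc₂)))
  have hMc : ∀ t : S, ∀ m ∈ M, ⁅t, m⁆ ∈ Subgroup.center S := by
    intro t m hm
    set q := QuotientGroup.mk' (Subgroup.center S)
    have hqa : Subgroup.center (S ⧸ Subgroup.center S) ≥ (zpowers (j a)).map q := by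
      rw [ge_iff_le, map_le_iff_le_comap, zpowers_le, mem_comap, mem_center_iff]
      intro x
      obtain ⟨x, rfl⟩ := QuotientGroup.mk'_surjective _ x
      have hle : H ≤ (centralizer ({q (j a)} : Set (S ⧸ Subgroup.center S))).comap q := by
        rw [hH, closure_le]
        rintro y (rfl | rfl) <;> refine mem_comap.mpr (mem_centralizer_singleton_iff.mpr ?_)
        · rw [← commutatorElement_eq_one_iff_mul_comm, ← map_commutatorElement]
          refine (QuotientGroup.eq_one_iff _).mpr ?_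
          rw [commutatorElement_def, hsa, show j a * j c₁ * (j a)⁻¹ = j c₁ by
            rw [(hjcp c₁ hc₁ _).symm.eq, mul_inv_cancel_right]]
          exact (hjc c₁ hc₁).2
        · rw [← commutatorElement_eq_one_iff_mul_comm, ← map_commutatorElement, ← map_commutatorElement j]
          exact (QuotientGroup.eq_one_iff _).mpr (hjc _ (d.comm b a)).2
      exact mem_centralizer_singleton_iff.mp (hle (hHtop ▸ mem_top x))
    have hm' : q m ∈ Subgroup.center (S ⧸ Subgroup.center S) := by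
      have hle : M ≤ (Subgroup.center (S ⧸ Subgroup.center S)).comap q := by
        refine sup_le ?_ (map_le_iff_le_comap.mp hqa)
        rintro _ ⟨w, hw, rfl⟩
        rw [mem_comap, show q (j w) = 1 from (QuotientGroup.eq_one_iff _).mpr (hjc w hw).2]
        exact one_mem _
      exact hle hm
    refine (QuotientGroup.eq_one_iff _).mp (show q ⁅t, m⁆ = 1 from ?_)
    rw [map_commutatorElement, commutatorElement_eq_one_iff_mul_comm]
    exact mem_center_iff.mp hm' (q t)
  have hTcen : T ≤ Subgroup.center S := by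
    intro t ht
    rw [mem_center_iff]
    intro u
    have hle : (⊤ : Subgroup S) ≤ centralizer ({t} : Set S) := by
      rw [← hHtop, hH, closure_le]
      rintro y (rfl | rfl) <;> refine mem_centralizer_singleton_iff.mpr ?_
      · rw [← hTgen] at ht
        obtain ⟨l, rfl⟩ := mem_zpowers_iff.mp ht
        exact ((Commute.self_pow s₁ p).zpow_right l).eq
      · exact mem_centralizer_iff.mp ht _ (hjΩ ▸ ⟨b, rfl⟩)
    exact mem_centralizer_singleton_iff.mp (hle (mem_top u))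
  -- the torus element
  let Ψ : S →* S := MonoidHom.mk' (fun s => ⟨f s, hf.mem (hNS.ge s.2)⟩)
    fun x y => Subtype.ext (hf.map_mul (hNS.ge x.2) (hNS.ge y.2))
  have hΨE : ∀ e : E, Ψ (ι e) = ι (φ e) := fun e => Subtype.ext (by
    show f (e : Ω) = _
    rw [hfe _ e.2, autFn_apply φ e.2]
    rfl)
  set e0 : S := Ψ s₁ * (s₁ ^ 4)⁻¹ with he0
  have he0E : e0 ∈ E' := by
    exact hfg
  rw [hsup] at he0E
  obtain ⟨w, hw, t, ht, hwt⟩ := mem_sup_of_normal_right.mp he0E
  obtain ⟨n, hn⟩ := mem_powers_iff_mem_zpowers.mpr (hTgen.ge ht)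
  set k := p * n + 4 with hk
  have hw' : w ^ p = 1 := RankTwo.omega_exp hp3 hS hr hw
  have hΨs : Ψ s₁ = w * s₁ ^ k := by
    rw [hk, pow_add, pow_mul, show s₁ ^ p = c from rfl, show c ^ n = t from hn, ← mul_assoc, hwt, he0,
      inv_mul_cancel_right]
  have hΨc : Ψ c = c ^ k := by
    have hyc : (s₁ ^ k) ^ p ∈ Subgroup.center S := by
      rw [← pow_mul, mul_comm, pow_mul]; exact hTcen (pow_mem hcT k)
    rw [hc, map_pow, hΨs, PGroup.mul_pow_classThree hp.out hp3 (fun x y z => hMc x _ (hcomm y z))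
      (hw' ▸ one_mem _) hyc, hw', one_mul, ← pow_mul, ← pow_mul, mul_comm]
  set z := ⁅a, b⁆ with hz
  have hzT : j z ∈ T := (hjc z (d.comm a b)).1.2
  obtain ⟨m, hm⟩ := mem_powers_iff_mem_zpowers.mpr (hTgen.ge hzT)
  have hφy : ∀ (y y' : Y0) (l : ℕ), ρ φ (π y) = π y' ^ l →
      ∃ w ∈ Subgroup.center Y0, RankTwo.restrictAut Y0 φ y = y' ^ l * w := by
    intro y y' l e
    refine ⟨(y' ^ l)⁻¹ * RankTwo.restrictAut Y0 φ y, QuotientGroup.eq.mp ?_, by rw [mul_inv_cancel_left]⟩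
    exact ((map_pow π y' l).trans e.symm)
  obtain ⟨w₁, hw₁, hφa⟩ := hφy a a 2 hφ1
  obtain ⟨w₂, hw₂, hφb⟩ := hφy b b ((p + 1) / 2) hφ2
  have hφz : RankTwo.restrictAut Y0 φ z = z := by
    obtain ⟨hl, hr'⟩ := commutator_bilin d.comm
    have h1 : ∀ w ∈ Subgroup.center Y0, ∀ y : Y0, ⁅w, y⁆ = 1 ∧ ⁅y, w⁆ = 1 := fun w hw y =>
      ⟨PGroup.commutator_eq_one_of_mem_center hw y, by
        rw [← commutatorElement_inv, PGroup.commutator_eq_one_of_mem_center hw y, inv_one]⟩
    have hpw : ∀ (l : ℕ) (y y' : Y0), ⁅y, y' ^ l⁆ = ⁅y, y'⁆ ^ l := fun l y y' => by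
      induction l with
      | zero => simp
      | succ l ih => rw [pow_succ, hr', ih, pow_succ]
    rw [hz, map_commutatorElement, hφa, hφb, hl, (h1 w₁ hw₁ _).1, mul_one, hr', (h1 w₂ hw₂ _).2, mul_one,
      hpw, ← PGroup.classTwo_pow_commutator d.comm a b 2, ← pow_mul]
    obtain ⟨q, hq⟩ : ∃ q, p = 2 * q + 1 := hp.out.odd_of_ne_two (by omega)
    rw [show 2 * ((p + 1) / 2) = p + 1 by omega, pow_succ]
    have hzp : ⁅a, b⁆ ^ p = 1 := hjinj (by rw [map_pow, hjp, map_one])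
    rw [hzp, one_mul]
  have hΨz : Ψ (j z) = j z := by
    show Ψ (ι (z : E)) = _
    rw [hΨE]
    exact congrArg ι (congrArg Subtype.val hφz)
  have hzk : (j z) ^ k = j z := by
    conv_rhs => rw [← hΨz, ← show c ^ m = j z from hm, map_pow, hΨc]
    rw [← show c ^ m = j z from hm]
    simp only [hc, ← pow_mul]
    congr 1
    ring
  have hz1 : (j z) ^ (k - 1) = 1 := by
    have h : (j z) ^ (k - 1) * j z = 1 * j z := by
      rw [← pow_succ, show k - 1 + 1 = k by omega, hzk, one_mul]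
    exact mul_right_cancel h
  have hord : orderOf (j z) = p :=
    orderOf_eq_prime (hjp z) fun h => hab (hjinj (h.trans (map_one j).symm))
  have hdvd := orderOf_dvd_of_pow_eq_one hz1
  rw [hord, show k - 1 = p * n + 3 by omega, Nat.dvd_add_right (dvd_mul_right p n)] at hdvd
  have := Nat.le_of_dvd (by norm_num) hdvd
  omega

end Cfsg.Agent.Resist
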