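import Cfsg.Agent.Lib.Resist.Fusion
import Cfsg.Agent.Lib.PGroup.RankTwo
import Cfsg.Agent.Lib.RankTwo.Blackburn

/-!
# An elementary abelian essential subgroup of order `p^2`, p ≥ 5, rank two

`caseB` : impossible unless `S` has order `p^3` and exponent `p`.
-/

set_option linter.style.haveILetI false
set_option linter.unusedSectionVars false
set_option autoImplicit false

open Subgroup
open scoped commutatorElement

universe u

namespace Cfsg.Agent.Resist

open Cfsg Cfsg.FusionSystem Cfsg.Agent.Fusion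

variable {p : ℕ} [hp : Fact p.Prime]
variable {Ω : Type u} [Group Ω] {S : Subgroup Ω} [Finite S] {F : FusionSystem S} {E : Subgroup Ω}

theorem commutator_bilin {G : Type u} [Group G] (h : ∀ a b : G, ⁅a, b⁆ ∈ Subgroup.center G) :
    (∀ a b c : G, ⁅a * b, c⁆ = ⁅a, c⁆ * ⁅b, c⁆) ∧ (∀ a b c : G, ⁅a, b * c⁆ = ⁅a, b⁆ * ⁅a, c⁆) := by
  constructor
  · intro a b c
    rw [commutatorElement_mul_left_eq_conj_mul, mem_center_iff.mp (h b c) a, mul_inv_cancel_right,
      mem_center_iff.mp (h b c) ⁅a, c⁆]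
  · intro a b c
    rw [commutatorElement_mul_right_eq_mul_conj, mul_assoc ⁅a, b⁆, mem_center_iff.mp (h a c) b, mul_assoc,
      mul_inv_cancel_right]

/-- `Ω₁` of a subgroup sits in `Ω₁` of the group. -/
theorem mem_omegaOne_of_pow {G : Type u} [Group G] {x : G} (hx : x ^ p = 1) :
    x ∈ RankTwo.omegaOne p G := RankTwo.mem_omegaOne hx

theorem card_omegaOne_le {G : Type u} [Group G] [Finite G] (hp3 : 3 < p) (hG : IsPGroup p G)
    (hr : Cfsg.PRankLE p 2 G) : Nat.card (RankTwo.omegaOne p G) ≤ p ^ 3 := by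
  refine (RankTwo.card_le_cube (p := p) (fun x => Subtype.ext ?_) fun A hA hAe => ?_).1
  · simpa using RankTwo.omega_exp hp3 hG hr x.2
  · have := hr (A.map (RankTwo.omegaOne p G).subtype) (Subgroup.map_isMulCommutative _ _) (by
      rintro _ ⟨a, ha, rfl⟩
      exact congrArg Subtype.val (hAe a ha))
    rwa [card_map_of_injective (RankTwo.omegaOne p G).subtype_injective] at this

set_option maxHeartbeats 1600000 in
theorem caseB (hp5 : 5 ≤ p) (hS : IsPGroup p S) (hF : F.IsSaturated p) (hE : F.IsEssential p E)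
    (hr : Cfsg.PRankLE p 2 S) (h2 : Nat.card E = p ^ 2) (hexpE : ∀ x : E, x ^ p = 1) :
    Nat.card S = p ^ 3 ∧ Monoid.exponent S = p := by
  have hES := hE.1.1
  have := finite_of_le (S := S) hES
  have hp3 : 3 < p := by omega
  have hcm : ∀ a b : E, a * b = b * a :=
    fun a b => (IsPGroup.isMulCommutative_of_card_eq_prime_sq h2).is_comm.comm a b
  let A : Act p F E E := ⟨MonoidHom.id _, fun _ _ _ h => h⟩
  have hA : ∀ (s : normalizerIn S E) (e : E), ((A.r s e : E) : Ω) = (s : Ω) * e * (s : Ω)⁻¹ := fun _ _ => rfl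
  set N := normalizerIn S E with hN
  have hNS : N ≤ S := inf_le_left
  have hEN : E ≤ N := le_normalizerIn hES
  have := finite_of_le (S := S) hNS
  obtain ⟨g₀, hg₀N, hg₀E⟩ := SetLike.exists_of_lt (lt_normalizerIn hS le_rfl (lt_of_essential hS hF hE))
  have hNP : IsPGroup p N := hS.to_le hNS
  set EY := E.subgroupOf N with hEY
  have hEYc : Nat.card EY = p ^ 2 := by rw [Nat.card_congr (subgroupOfEquivOfLe hEN).toEquiv, h2]
  -- facts valid for every element outside `E`
  have stage : ∀ g : N, (g : Ω) ∉ E → ∃ (i : ℕ) (z x : E), z ≠ 1 ∧ x ∉ zpowers z ∧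
      ((g ^ i : N) : Ω) ∉ E ∧
      (g ^ i) * Subgroup.inclusion hEN x * (g ^ i)⁻¹ = Subgroup.inclusion hEN z * Subgroup.inclusion hEN x ∧
      (∀ t : N, Commute (Subgroup.inclusion hEN z) t) ∧ Nat.card N = p ^ 3 ∧ (∀ y : N, y ^ p = 1) ∧
      ∃ φ ∈ F.autGroup E, φ z = z ^ 2 ∧ φ x = x ^ ((p + 1) / 2) ∧
        ∃ f : Ω → Ω, IsMap F N f ∧ (∀ w ∈ E, f w = autFn φ w) ∧
          ∃ h : f ((g ^ i : N) : Ω) ∈ N, ((⟨_, h⟩ * ((g ^ i) ^ 4)⁻¹ : N) : Ω) ∈ E := by
    intro g hg
    obtain ⟨i, z, x, hz, hx, hgi, hfixv, hz1, hx1, hgen, φ, hφ, hφz, hφx, f, hf, hfe, h, he⟩ :=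
      A.core hS hF hE h2 hexpE hcm hp5 hg
    set ι := Subgroup.inclusion hEN
    have hconjx : (g ^ i) * ι x * (g ^ i)⁻¹ = ι z * ι x :=
      Subtype.ext ((hA (g ^ i) x).symm.trans (congrArg Subtype.val hx1))
    have hzc : ∀ t : N, Commute (ι z) t := fun t => by
      obtain ⟨n, hn⟩ := hgen t
      have h1 : A.r t z = z := by
        have h2' := (A.r_eq_one_iff hS hF hE h2 hexpE hcm).mpr hn
        rw [map_mul, map_inv, mul_inv_eq_one, map_pow] at h2'
        rw [h2']
        exact (transvection_pow h2 hexpE hcm hz1 hx1 n).1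
      have h3 : t * ι z * t⁻¹ = ι z := Subtype.ext ((hA t z).symm.trans (congrArg Subtype.val h1))
      exact (mul_inv_eq_iff_eq_mul.mp h3).symm
    set a := g ^ i with ha
    have hrp : A.r a ^ p = 1 := plane_ext h2 hexpE hcm hz hx
      (transvection_pow h2 hexpE hcm hz1 hx1 p).1
      (by rw [(transvection_pow h2 hexpE hcm hz1 hx1 p).2, hexpE, one_mul]; rfl)
    have hapE : ((a ^ p : N) : Ω) ∈ E := A.r_eq_one hS hE (by rw [map_pow, hrp])
    obtain ⟨m, hm⟩ : ∃ m : ℕ, a ^ p = ι z ^ m := by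
      have hv : A.r g ⟨_, hapE⟩ = ⟨_, hapE⟩ := by
        refine Subtype.ext ((hA g _).trans ?_)
        have hc : Commute g (a ^ p) := by rw [ha]; exact ((Commute.refl g).pow_right i).pow_right p
        exact congrArg Subtype.val (mul_inv_eq_iff_eq_mul.mpr hc.eq)
      obtain ⟨m, hm⟩ := mem_powers_iff_mem_zpowers.mpr (hfixv _ hv)
      refine ⟨m, ?_⟩
      rw [← map_pow]
      have hm' : z ^ m = ⟨_, hapE⟩ := hm
      exact Subtype.ext (congrArg (fun q : E => (q : Ω)) hm'.symm)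
    have hsup : EY ⊔ zpowers a = ⊤ := by
      rw [eq_top_iff]
      intro t _
      obtain ⟨n, hn⟩ := hgen t
      rw [show t = t * (a ^ n)⁻¹ * a ^ n by rw [inv_mul_cancel_right]]
      exact mul_mem (mem_sup_left hn) (mem_sup_right (pow_mem (mem_zpowers a) n))
    have hcard : Nat.card N = p ^ 3 := by
      refine le_antisymm ?_ ?_
      · have hrange : (A.r).range ≤ zpowers (A.r a) := by
          rintro _ ⟨t, rfl⟩
          obtain ⟨n, hn⟩ := hgen t
          have h2' := (A.r_eq_one_iff hS hF hE h2 hexpE hcm).mpr hn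
          rw [map_mul, map_inv, mul_inv_eq_one, map_pow] at h2'
          exact h2' ▸ pow_mem (mem_zpowers _) n
        have hker : (A.r).ker = EY := SetLike.ext fun t =>
          MonoidHom.mem_ker.trans (A.r_eq_one_iff hS hF hE h2 hexpE hcm)
        have := finite_mulAut (S := S) hES
        rw [← (A.r).ker.card_mul_index, hker, hEYc, ← hker, index_ker, pow_succ]
        refine Nat.mul_le_mul le_rfl ((Nat.le_of_dvd Nat.card_pos (card_dvd_of_le hrange)).trans ?_)
        rw [Nat.card_zpowers]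
        exact Nat.le_of_dvd hp.out.pos (orderOf_dvd_of_pow_eq_one hrp)
      · have hlt : EY < ⊤ := lt_top_iff_ne_top.mpr fun h' => hgi (mem_subgroupOf.mp (show a ∈ EY by rw [h']; exact mem_top a))
        have := PGroup.mul_card_le_of_lt hNP hlt
        rwa [hEYc, card_top, ← pow_succ'] at this
    -- the power of `a`
    set e0 : N := ⟨_, h⟩ * (a ^ 4)⁻¹ with he0
    have he0p : e0 ^ p = 1 := by
      have := congrArg Subtype.val (hexpE ⟨_, he⟩)
      exact Subtype.ext (by simpa using this)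
    have hcl := PGroup.classThree_of_card_le hNP (by rw [hcard]; exact Nat.pow_le_pow_right hp.out.pos (by norm_num))
    have hcent : ∀ k : ℕ, (ι z) ^ k ∈ Subgroup.center N := fun k =>
      pow_mem (mem_center_iff.mpr fun t => (hzc t).symm.eq) k
    have hfa : (⟨_, h⟩ : N) ^ p = (a ^ p) ^ 4 := by
      rw [show (⟨_, h⟩ : N) = e0 * a ^ 4 by rw [he0, inv_mul_cancel_right],
        PGroup.mul_pow_classThree hp.out hp3 hcl (he0p ▸ one_mem _)
          (by rw [← pow_mul, mul_comm, pow_mul, hm, ← pow_mul]; exact hcent _),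
        he0p, one_mul, ← pow_mul, mul_comm, pow_mul]
    have hfpow : ∀ k : ℕ, f ((a ^ k : N) : Ω) = f (a : Ω) ^ k := fun k => by
      induction k with
      | zero => simpa using hf.map_one
      | succ k ih => rw [pow_succ, pow_succ, Subgroup.coe_mul, hf.map_mul (a ^ k).2 a.2, ih]
    have hap1 : a ^ p = 1 := by
      have h1 : f ((a ^ p : N) : Ω) = (((a ^ p) ^ 4 : N) : Ω) := by
        rw [hfpow, ← hfa]; rfl
      have h3 : f ((a ^ p : N) : Ω) = (((a ^ p) ^ 2 : N) : Ω) := by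
        rw [hm, ← map_pow]
        show f ((z ^ m : E) : Ω) = _
        rw [hfe _ (z ^ m).2, autFn_apply φ (z ^ m).2]
        show ((φ (z ^ m) : E) : Ω) = _
        have hφz' : φ z = z ^ 2 := hφz
        rw [map_pow φ, hφz', ← map_pow ι, ← pow_mul, ← pow_mul, mul_comm 2]
        rfl
      have h4 : (a ^ p) ^ 4 = (a ^ p) ^ 2 := Subtype.ext (h1.symm.trans h3)
      have h5 : (a ^ p) ^ 2 = 1 := by
        have h6 : (a ^ p) ^ 2 * (a ^ p) ^ 2 = 1 * (a ^ p) ^ 2 := by rw [one_mul, ← pow_add, ← h4]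
        exact mul_right_cancel h6
      obtain ⟨k, hk⟩ := hNP (a ^ p)
      refine orderOf_eq_one_iff.mp (Nat.eq_one_of_dvd_coprimes ?_ (orderOf_dvd_of_pow_eq_one h5)
        (orderOf_dvd_of_pow_eq_one hk))
      exact Nat.Coprime.pow_right k ((Nat.coprime_primes Nat.prime_two hp.out).mpr (by omega))
    refine ⟨i, z, x, hz, hx, hgi, hconjx, hzc, hcard, fun y => ?_, φ, hφ, hφz, hφx, f, hf, hfe, h, he⟩
    have hgen' : ⊤ ≤ closure ((EY : Set N) ∪ {a}) := by
      rw [← hsup]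
      exact sup_le (fun w hw => subset_closure (Or.inl hw)) (zpowers_le.mpr (subset_closure (Or.inr rfl)))
    refine PGroup.pow_eq_one_of_gen_card_le hp3 hNP (S := (EY : Set N) ∪ {a}) ?_ ?_ (hgen' (mem_top y))
    · rintro w (hw | rfl)
      · exact Subtype.ext (by simpa using congrArg Subtype.val (hexpE ⟨_, hw⟩))
      · exact hap1
    · exact (card_le_card_group _).trans (hcard.le.trans (Nat.pow_le_pow_right hp.out.pos (by norm_num)))
  obtain ⟨-, -, -, -, -, -, -, -, hN3, hNexp, -⟩ := stage ⟨g₀, hg₀N⟩ hg₀E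
  -- `N = Ω₁(S)`
  have hNΩ : N.subgroupOf S = RankTwo.omegaOne p S := by
    refine PGroup.eq_of_le_of_card_le (fun y hy => RankTwo.mem_omegaOne ?_) ?_
    · exact Subtype.ext (by simpa using congrArg Subtype.val (hNexp ⟨_, hy⟩))
    · rw [Nat.card_congr (subgroupOfEquivOfLe hNS).toEquiv, hN3]
      exact card_omegaOne_le hp3 hS hr
  by_cases hSN : N = S
  · refine ⟨hSN ▸ hN3, ?_⟩
    haveI : Nontrivial S := Finite.one_lt_card_iff_nontrivial.mp
      (by rw [← hSN, hN3]; exact Nat.one_lt_pow (by norm_num) hp.out.one_lt)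
    refine (Monoid.exponent_eq_prime_iff hp.out).mpr fun s hs => orderOf_eq_prime ?_ hs
    exact Subtype.ext (by simpa using congrArg Subtype.val (hNexp ⟨(s : Ω), hSN.ge s.2⟩))
  exfalso
  have hNn : (N.subgroupOf S).Normal := by rw [hNΩ]; infer_instance
  have hNSN : ∀ s ∈ S, s ∈ normalizerIn S N := fun s hs =>
    mem_normalizerIn_of_conj hs fun y hy => hNn.conj_mem ⟨y, hNS hy⟩ hy ⟨s, hs⟩
  have hnc : ¬ IsMulCommutative N := by
    intro hc
    obtain ⟨i, z, x, hz, -, -, hconj, -⟩ := stage ⟨g₀, hg₀N⟩ hg₀E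
    rw [hc.is_comm.comm, inv_mul_cancel_left, right_eq_mul] at hconj
    exact hz (Subgroup.inclusion_injective hEN (by rw [hconj, map_one]))
  have d : Extra p N := extra_of_card hN3 hnc
  have hCN : centralizerIn S N ≤ N := fun s hs =>
    hEN (FusionChain.centralizerIn_le_of_centric hE.1 ⟨hs.1, fun e he => hs.2 e (hEN he)⟩)
  -- the action of `S` on `N / Z(N)`
  let ρ := RankTwo.quotientAut (Subgroup.center N)
  let rS : S →* MulAut (N ⧸ Subgroup.center N) :=
    (ρ.comp (normConj S N)).comp (MonoidHom.mk' (fun s : S => (⟨s, hNSN s s.2⟩ : normalizerIn S N))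
      fun _ _ => rfl)
  let π := QuotientGroup.mk' (Subgroup.center N)
  have hrS : ∀ (s : S) (y y' : N), (y' : Ω) = (s : Ω) * y * (s : Ω)⁻¹ → rS s (π y) = π y' := by
    intro s y y' e
    show π (normConj S N ⟨s, hNSN s s.2⟩ y) = π y'
    exact congrArg π (Subtype.ext e.symm)
  have hker : ∀ β : MulAut N, ρ β = 1 → β ∈ Cfsg.Inn N := by
    intro β hβ
    obtain ⟨n, hn⟩ := d.exists_inner β fun y => (QuotientGroup.eq_one_iff _).mp (by
      have h := DFunLike.congr_fun hβ (π y)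
      show π (β y * y⁻¹) = 1
      rw [map_mul, map_inv, mul_inv_eq_one]
      exact h)
    exact ⟨n, MulEquiv.ext fun y => (hn y).symm⟩
  have hrS1 : ∀ s : S, rS s = 1 → (s : Ω) ∈ N := fun s hs =>
    FusionChain.mem_of_conj_mem_inn hCN s.2 hNS (hker (normConj S N ⟨s, hNSN s s.2⟩) hs) fun _ => rfl
  have hWc := d.card_quotient
  have hWe := d.quotient_pow
  have hWm := d.quotient_comm
  haveI : Nontrivial (N ⧸ Subgroup.center N) := Finite.one_lt_card_iff_nontrivial.mp
    (by rw [hWc]; exact Nat.one_lt_pow two_ne_zero hp.out.one_lt)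
  obtain ⟨w, hw1, hwfix⟩ := exists_fixed (IsPGroup.of_card hWc) rS.range
    (hS.of_surjective rS.rangeRestrict rS.rangeRestrict_surjective)
  obtain ⟨g, rfl⟩ := QuotientGroup.mk'_surjective _ w
  have hcE : Subgroup.center N ≤ EY := fun c hc =>
    FusionChain.centralizerIn_le_of_centric hE.1 ⟨hNS c.2, fun e he =>
      congrArg Subtype.val (mem_center_iff.mp hc ⟨e, hEN he⟩)⟩
  -- the preimage of a line containing a given noncentral element
  have hline : ∀ v : N, π v ≠ 1 → Nat.card ((zpowers (π v)).comap π) = p ^ 2 := by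
    intro v hv
    have h := ((zpowers (π v)).comap π).card_mul_index
    have h' := (zpowers (π v)).card_mul_index
    rw [index_comap_of_surjective _ (QuotientGroup.mk'_surjective _), hN3] at h
    rw [Nat.card_zpowers, orderOf_eq_prime (hWe _) hv, hWc, pow_two] at h'
    rw [Nat.eq_of_mul_eq_mul_left hp.out.pos h', pow_succ] at h
    exact Nat.eq_of_mul_eq_mul_right hp.out.pos h
  have hlineE : ∀ v : N, (v : Ω) ∈ E → π v ≠ 1 → (zpowers (π v)).comap π = EY := by
    intro v hv hv1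
    refine PGroup.eq_of_le_of_card_le (fun y hy => ?_) (by rw [hEYc, hline v hv1])
    obtain ⟨k, hk⟩ := mem_zpowers_iff.mp hy
    have hc : y * (v ^ k)⁻¹ ∈ Subgroup.center N := (QuotientGroup.eq_one_iff _).mp (by
      show π (y * (v ^ k)⁻¹) = 1
      rw [map_mul, map_inv, map_zpow, hk, mul_inv_cancel])
    rw [show y = y * (v ^ k)⁻¹ * v ^ k by rw [inv_mul_cancel_right]]
    exact mul_mem (hcE hc) (zpow_mem (show v ∈ EY from hv) k)
  have hgE : (g : Ω) ∉ E := by
    intro hgE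
    refine hSN (le_antisymm hNS fun s hs => mem_normalizerIn_of_conj hs fun e he => ?_)
    have he' : (⟨e, hEN he⟩ : N) ∈ (zpowers (π g)).comap π := by rw [hlineE g hgE hw1]; exact he
    obtain ⟨k, hk⟩ := mem_zpowers_iff.mp he'
    have hy : π (normConj S N ⟨s, hNSN s hs⟩ ⟨e, hEN he⟩) ∈ zpowers (π g) := by
      show rS ⟨s, hs⟩ (π _) ∈ _
      rw [← hk, map_zpow, hwfix _ ⟨_, rfl⟩]
      exact zpow_mem (mem_zpowers _) k
    have hy' : normConj S N ⟨s, hNSN s hs⟩ ⟨e, hEN he⟩ ∈ EY := by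
      rw [← hlineE g hgE hw1]; exact hy
    exact hy'
  obtain ⟨i, z, x, hz, hx, ha, hconj, hzc, -, -, φ, hφ, hφz, hφx, f, hf, hfe, hfh, hfa⟩ := stage g hgE
  set a := g ^ i with ha_def
  set X := Subgroup.inclusion hEN x with hX
  set Z := Subgroup.inclusion hEN z with hZ
  have he1 : π a ≠ 1 := fun h => ha (hcE ((QuotientGroup.eq_one_iff _).mp h))
  have hfix1 : ∀ s : S, rS s (π a) = π a := fun s => by
    rw [ha_def, map_pow, map_pow, hwfix _ ⟨s, rfl⟩]
  have he2 : π X ∉ zpowers (π a) := by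
    intro h
    have hXc : π X ≠ 1 := fun h1 => hz (Subgroup.inclusion_injective hEN (by
      rw [map_one]
      show Z = 1
      rw [mem_center_iff.mp ((QuotientGroup.eq_one_iff _).mp h1) a, mul_inv_cancel_right, right_eq_mul]
        at hconj
      exact hconj))
    have hle : zpowers (π a) = zpowers (π X) := by
      refine (PGroup.eq_of_le_of_card_le (zpowers_le.mpr h) ?_).symm
      rw [Nat.card_zpowers, Nat.card_zpowers, orderOf_eq_prime (hWe _) he1, orderOf_eq_prime (hWe _) hXc]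
    exact ha (show a ∈ EY by rw [← hlineE X x.2 hXc, ← hle]; exact mem_zpowers _)
  -- the transvection
  obtain ⟨s₀, hs₀, hs₀N⟩ := SetLike.exists_of_lt (lt_of_le_of_ne hNS hSN)
  have hpS : ∀ s : S, ∃ k, rS s ^ p ^ k = 1 := fun s => by
    obtain ⟨k, hk⟩ := hS s
    exact ⟨k, by rw [← map_pow, hk, map_one]⟩
  obtain ⟨k₀, hk₀⟩ := hpS ⟨s₀, hs₀⟩
  have hd0 : rS ⟨s₀, hs₀⟩ (π X) * (π X)⁻¹ ≠ 1 := fun h => hs₀N (hrS1 ⟨s₀, hs₀⟩
    (plane_ext hWc hWe hWm he1 he2 (hfix1 _) (mul_inv_eq_one.mp h)))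
  have hdline := plane_transvection hWc hWe hWm he1 _ hk₀ (hfix1 ⟨s₀, hs₀⟩) (π X)
  obtain ⟨n₀, hn₀⟩ := exists_pow_eq (hWe (π a)) hdline hd0
  set s₁ : S := (⟨s₀, hs₀⟩ : S) ^ n₀ with hs₁
  have hu2 : rS s₁ (π X) = π a * π X := by
    rw [hs₁, map_pow, (transvection_pow hWc hWe hWm (u := rS ⟨s₀, hs₀⟩)
      (e1 := rS ⟨s₀, hs₀⟩ (π X) * (π X)⁻¹) (e2 := π X) ?_ (by rw [inv_mul_cancel_right]) n₀).2, hn₀]
    obtain ⟨j, hj⟩ := mem_zpowers_iff.mp hdline
    rw [← hj, map_zpow, hfix1]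
  clear hs₁
  clear_value s₁
  have hu1 := hfix1 s₁
  have hall : ∀ s : S, ∃ n : ℕ, rS s = rS s₁ ^ n := fun s => by
    obtain ⟨k, hk⟩ := hpS s
    exact exists_transvection_pow hWc hWe hWm he1 he2 hu1 hu2 hk (hfix1 s)
  -- every automorphism in the system fixes the line of `a`
  have hEmap : IsMap F E (fun y => y) := IsMap.id hES
  have hclaim : ∀ α ∈ F.autGroup N, ρ α (π a) ∈ zpowers (π a) := by
    intro α hα
    by_contra hv
    set v := ρ α (π a) with hvdef
    have hsup := plane_sup_eq hWc hWe hWm he1 he2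
    haveI : (zpowers (π a)).Normal := ⟨fun b hb c => by rwa [hWm c b, mul_inv_cancel_right]⟩
    have hvtop : v ∈ zpowers (π a) ⊔ zpowers (π X) := hsup.symm ▸ mem_top v
    obtain ⟨c, hc, d', hd', e⟩ := mem_sup_of_normal_left.mp hvtop
    have hd1 : d' ≠ 1 := fun h => hv (by rw [← e, h, mul_one]; exact hc)
    obtain ⟨n, hn⟩ := exists_pow_eq (hWe (π X)) hd' hd1
    obtain ⟨l, hl⟩ := mem_powers_iff_mem_zpowers.mpr (pow_mem hc n : c ^ n ∈ zpowers (π a))
    have hvn : v ^ n = rS (s₁ ^ l) (π X) := by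
      rw [map_pow, (transvection_pow hWc hWe hWm hu1 hu2 l).2, ← e, Commute.mul_pow (hWm c d'), hn]
      rw [show π a ^ l = c ^ n from hl]
    set t := s₁ ^ l with ht
    set β : MulAut N := α⁻¹ * normConj S N ⟨t, hNSN t t.2⟩ with hβ
    have hβF : β ∈ F.autGroup N :=
      mul_mem (Subgroup.inv_mem _ hα) (normConj_mem F hNS _).2
    have hβX : π (β X) = π a ^ n := by
      show ρ β (π X) = _
      rw [hβ, map_mul, map_inv, MulAut.mul_apply]
      show (ρ α)⁻¹ (rS t (π X)) = _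
      rw [← hvn, map_pow, hvdef, MulAut.inv_apply_self]
    have hXc : π X ≠ 1 := fun h => he2 (h ▸ one_mem _)
    have hβX1 : π (β X) ≠ 1 := fun h => hXc (by
      have h' : ρ β (π X) = 1 := h
      exact (EmbeddingLike.map_eq_one_iff).mp h')
    have hβE : ∀ y : N, y ∈ EY → π (β y) ∈ zpowers (π a) := fun y hy => by
      rw [← hlineE X x.2 hXc] at hy
      obtain ⟨k, hk⟩ := mem_zpowers_iff.mp hy
      show ρ β (π y) ∈ _
      rw [← hk, map_zpow, show ρ β (π X) = π a ^ n from hβX]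
      exact zpow_mem (pow_mem (mem_zpowers _) n) k
    set MY := (zpowers (π a)).comap π with hMY
    have hmapβ : EY.map β.toMonoidHom = MY := by
      refine PGroup.eq_of_le_of_card_le ?_ ?_
      · rintro _ ⟨y, hy, rfl⟩
        exact hβE y hy
      · rw [card_map_of_injective (MulEquiv.injective _), hEYc, hMY, hline a he1]
    set M := MY.map N.subtype with hM
    have hiso : IsMap F E (autFn β) := ((mem_autGroup_iff hNS).mp hβF).mono hEN
    have himg : img (autFn β) E = M := by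
      refine le_antisymm (hiso.img_le le_rfl fun y hy => ?_) ?_
      · rw [autFn_apply β (hEN hy)]
        exact mem_map_of_mem N.subtype (hmapβ ▸ mem_map_of_mem _ (show (⟨y, hEN hy⟩ : N) ∈ EY from hy))
      · rintro _ ⟨y, hy, rfl⟩
        rw [← hmapβ] at hy
        obtain ⟨y', hy', rfl⟩ := hy
        have h := hiso.mem_img (Q := E) (x := (y' : Ω)) hy'
        rwa [autFn_apply β y'.2] at h
    have hconjM : F.IsConj E M := isConj_iff.mpr ⟨autFn β, hiso, himg⟩
    have hSM : ∀ s ∈ S, s ∈ normalizerIn S M := by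
      intro s hs
      have := finite_of_le (S := S) ((map_subtype_le MY).trans hNS)
      refine mem_normalizerIn_of_conj hs ?_
      rintro _ ⟨y, hy, rfl⟩
      obtain ⟨k, hk⟩ := mem_zpowers_iff.mp hy
      refine ⟨normConj S N ⟨s, hNSN s hs⟩ y, ?_, rfl⟩
      show rS ⟨s, hs⟩ (π y) ∈ zpowers (π a)
      rw [← hk, map_zpow, hfix1]
      exact zpow_mem (mem_zpowers _) k
    have hNM : normalizerIn S M = S := le_antisymm inf_le_left hSM
    have hle := hE.2.1.2 M hconjM
    rw [hNM] at hle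
    exact hSN (eq_of_le_of_card le_rfl hNS hle)
  -- the torus element on `N`
  have hfN : ∀ y ∈ N, f y ∈ N := by
    intro y hy
    let H : Subgroup N :=
      { carrier := {y | f (y : Ω) ∈ N}
        one_mem' := by show f 1 ∈ N; rw [hf.map_one]; exact one_mem _
        mul_mem' := fun {b c} hb hc => by
          show f ((b : Ω) * c) ∈ N
          rw [hf.map_mul b.2 c.2]
          exact mul_mem hb hc
        inv_mem' := fun {b} hb => by
          show f (b : Ω)⁻¹ ∈ N
          rw [hf.map_inv b.2]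
          exact inv_mem hb }
    have hH : EY ≤ H := fun w hw => by
      show f (w : Ω) ∈ N
      have hw' : (w : Ω) ∈ E := hw
      rw [hfe (w : Ω) hw', autFn_apply φ hw']
      exact hEN (φ _).2
    have htop : EY ⊔ zpowers a = ⊤ := PGroup.eq_sup_zpowers_of_card hNP le_top
      (by rw [card_top, hN3, hEYc, pow_succ']) (mem_top a) ha
    exact (htop ▸ sup_le hH (zpowers_le.mpr hfh) : (⊤ : Subgroup N) ≤ H) (mem_top ⟨y, hy⟩)
  obtain ⟨α, hα, hαf⟩ := exists_aut_of_isIso (⟨hf,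
    eq_of_le_of_card hNS (hf.img_le le_rfl hfN) (hf.card_img le_rfl).ge⟩ : IsIso F N N f)
  have hαX : ρ α (π X) = π X ^ ((p + 1) / 2) := by
    show π (α X) = _
    rw [← map_pow π, ← map_pow (Subgroup.inclusion hEN), ← show φ x = x ^ ((p + 1) / 2) from hφx]
    refine congrArg π (Subtype.ext ((hαf X).trans ?_))
    show f (x : Ω) = _
    rw [hfe _ x.2, autFn_apply φ x.2]
    rfl
  have hαa : ρ α (π a) = π a ^ 4 := by
    set e0 : N := ⟨_, hfh⟩ * (a ^ 4)⁻¹
    have hXc : π X ≠ 1 := fun h => he2 (h ▸ one_mem _)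
    have he0 : π e0 ∈ zpowers (π X) := by
      have h : e0 ∈ (zpowers (π X)).comap π := by rw [hlineE X x.2 hXc]; exact hfa
      exact h
    have hval : ρ α (π a) = π e0 * π a ^ 4 := by
      show π (α a) = _
      rw [← map_pow, ← map_mul, inv_mul_cancel_right]
      exact congrArg π (Subtype.ext (hαf a))
    have h0 : π e0 ∈ zpowers (π a) := by
      have h := mul_mem (hclaim α hα) (inv_mem (pow_mem (mem_zpowers (π a)) 4))
      rwa [hval, mul_inv_cancel_right] at h
    have h1 : π e0 = 1 := by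
      by_contra hne
      obtain ⟨q, hq⟩ := exists_pow_eq (hWe (π X)) he0 hne
      exact he2 (hq ▸ pow_mem h0 q)
    rw [hval, h1, one_mul]
  have hrel : ρ α * rS s₁ * (ρ α)⁻¹ = rS s₁ ^ 8 := by
    rw [mul_inv_eq_iff_eq_mul]
    refine plane_ext hWc hWe hWm he1 he2 ?_ ?_
    · rw [MulAut.mul_apply, MulAut.mul_apply, hu1, hαa, map_pow (rS s₁ ^ 8),
        (transvection_pow hWc hWe hWm hu1 hu2 8).1]
    · rw [MulAut.mul_apply, MulAut.mul_apply, hu2, map_mul, hαa, hαX, map_pow (rS s₁ ^ 8),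
        (transvection_pow hWc hWe hWm hu1 hu2 8).2, Commute.mul_pow (hWm _ _), ← pow_mul]
      congr 1
      obtain ⟨m, hm⟩ : ∃ m, p = 2 * m + 1 := hp.out.odd_of_ne_two (by omega)
      rw [show 8 * ((p + 1) / 2) = 4 + p * 4 by omega, pow_add, pow_mul, hWe, one_pow, mul_one]
  have hNfn : F.IsFullyNormalized N := ⟨hNS, fun Q _ => by
    rw [show normalizerIn S N = S from le_antisymm inf_le_left hNSN]
    exact Subgroup.card_le_of_le inf_le_left⟩
  have := finite_mulAut (S := S) hNS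
  obtain ⟨F', hF', hF'e⟩ := FusionChain.exists_extension (receptive_of_fullyNormalized hS hF hNfn) hα
    (le_refl (normalizerIn S N)) fun s hs => by
      obtain ⟨n, hn⟩ := hall ⟨s, hs.1⟩
      set t : S := (s₁ ^ 8) ^ n
      have hρ : ρ (α * normConj S N ⟨s, hs⟩ * α⁻¹ * (normConj S N ⟨t, hNSN t t.2⟩)⁻¹) = 1 := by
        rw [map_mul, map_mul, map_mul, map_inv, map_inv, mul_inv_eq_one]
        show ρ α * rS ⟨s, hs.1⟩ * (ρ α)⁻¹ = rS t
        rw [hn, ← conj_pow, hrel, map_pow rS (s₁ ^ 8) n, map_pow rS s₁ 8]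
      have h := mul_mem (inn_le_autInducedBy hNS (hker _ hρ)) (normConj_mem F hNS ⟨t, hNSN t t.2⟩).1
      rwa [inv_mul_cancel_right] at h
  have hF'S := hF'.mono (le_sup_right : normalizerIn S N ≤ N ⊔ normalizerIn S N)
  obtain ⟨hh, hhe⟩ := map_conj_eq hF'S (le_normalizerIn hNS) hF'e
    (g := ⟨(s₁ : Ω), hNSN _ s₁.2⟩) (hNSN _ s₁.2)
  let Ψ : S →* S := MonoidHom.mk' (fun s => ⟨F' s, hF'S.mem (hNSN _ s.2)⟩)
    fun b c => Subtype.ext (hF'S.map_mul (hNSN _ b.2) (hNSN _ c.2))
  set nn : S := Ψ s₁ * (s₁ ^ 8)⁻¹ with hnn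
  have hnN : (nn : Ω) ∈ N := hrS1 nn (by
    rw [hnn, map_mul, map_inv, mul_inv_eq_one, map_pow]
    show ρ (normConj S N ⟨F' s₁, hh⟩) = _
    rw [hhe, map_mul, map_mul, map_inv]
    exact hrel)
  have hs1p : ((s₁ ^ p : S) : Ω) ∈ N := hrS1 (s₁ ^ p) (by
    rw [map_pow]
    exact plane_ext hWc hWe hWm he1 he2 (transvection_pow hWc hWe hWm hu1 hu2 p).1
      (by rw [(transvection_pow hWc hWe hWm hu1 hu2 p).2, hWe, one_mul]; rfl))
  -- the centre of `N` is generated by `Z` and is central in `S`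
  have hZc : Z ∈ Subgroup.center N := mem_center_iff.mpr fun t => (hzc t).symm.eq
  have hZ1 : Z ≠ 1 := fun h => hz (Subgroup.inclusion_injective hEN (h.trans (map_one _).symm))
  have hcz : ∀ c ∈ Subgroup.center N, ∃ k : ℕ, Z ^ k = c := by
    intro c hc
    obtain ⟨k, hk⟩ := mem_powers_iff_mem_zpowers.mpr
      ((zpowers_eq_top_of_prime_card (g := (⟨Z, hZc⟩ : Subgroup.center N)) d.center
        (fun h => hZ1 (congrArg Subtype.val h))).symm ▸ mem_top (⟨c, hc⟩ : Subgroup.center N))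
    exact ⟨k, congrArg Subtype.val hk⟩
  let j := Subgroup.inclusion hNS
  have hjc : ∀ c ∈ Subgroup.center N, j c ∈ Subgroup.center S := by
    intro c hc
    refine mem_center_iff.mpr fun s => ?_
    set γ := normConj S N ⟨s, hNSN s s.2⟩
    have hγc : ∀ y ∈ Subgroup.center N, γ y ∈ Subgroup.center N := fun y hy => mem_center_iff.mpr fun t => by
      obtain ⟨t, rfl⟩ := γ.surjective t
      rw [← map_mul, ← map_mul, mem_center_iff.mp hy t]
    let δ : MulAut (Subgroup.center N) :=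
      MulEquiv.ofBijective (MonoidHom.mk' (fun y : Subgroup.center N => (⟨γ y, hγc _ y.2⟩ : Subgroup.center N))
          fun b c => Subtype.ext (map_mul γ (b : N) c))
        (Finite.injective_iff_bijective.mp fun b c e => Subtype.ext (γ.injective (congrArg Subtype.val e)))
    obtain ⟨k, hk⟩ := hS s
    have hpow : ∀ m (y : Subgroup.center N), ((((δ ^ m) y : Subgroup.center N) : N) : N) = (γ ^ m) y := by
      intro m
      induction m with
      | zero => intro y; rfl
      | succ m ih => intro y; rw [pow_succ', pow_succ', MulAut.mul_apply, MulAut.mul_apply, ← ih]; rfl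
    have hγk : γ ^ p ^ k = 1 := by
      rw [← map_pow, show (⟨s, hNSN s s.2⟩ : normalizerIn S N) ^ p ^ k = 1 from
        Subtype.ext (congrArg Subtype.val hk :), map_one]
    have hδ : δ ^ p ^ k = 1 := MulEquiv.ext fun y => Subtype.ext (by rw [hpow, hγk]; rfl)
    have h1 := hpow 1 ⟨c, hc⟩
    rw [aut_prime_trivial d.center δ hδ, pow_one] at h1
    refine Subtype.ext ?_
    have h2 : (s : Ω) * c * (s : Ω)⁻¹ = c := congrArg Subtype.val h1.symm
    exact mul_inv_eq_iff_eq_mul.mp h2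
  have hpowN : ∀ y : N, j y ^ p = 1 := fun y => by rw [← map_pow, hNexp, map_one]
  have hrel' : ∀ (y y' : N), rS s₁ (π y) = π y' → ∃ c ∈ Subgroup.center N, s₁ * j y * s₁⁻¹ = j y' * j c := by
    intro y y' e
    have e' : π (normConj S N ⟨s₁, hNSN _ s₁.2⟩ y) = π y' := e
    refine ⟨y'⁻¹ * normConj S N ⟨s₁, hNSN _ s₁.2⟩ y, QuotientGroup.eq.mp e'.symm, ?_⟩
    rw [map_mul, map_inv, mul_inv_cancel_left]
    rfl
  obtain ⟨c₁, hc₁, hsa⟩ := hrel' a a hu1
  obtain ⟨c₂, hc₂, hsb⟩ := hrel' X (a * X) (by rw [map_mul]; exact hu2)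
  rw [map_mul] at hsb
  obtain ⟨hcomm1, hcomm2⟩ := pow_unip (by omega) (hpowN c₁) (hpowN c₂) (hpowN a)
    (fun t => (mem_center_iff.mp (hjc _ hc₁) t).symm) (fun t => (mem_center_iff.mp (hjc _ hc₂) t).symm) hsa hsb
  set P : N := ⟨_, hs1p⟩ with hP
  have hPc : P ∈ Subgroup.center N := by
    have htop : centralizer ({P} : Set N) = ⊤ := by
      refine d.closure_eq_top (Subgroup.center_le_centralizer _) (a := a) (b := X) ?_ ?_ ?_
      · exact mem_centralizer_singleton_iff.mpr (Subtype.ext (congrArg Subtype.val hcomm1.eq).symm)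
      · exact mem_centralizer_singleton_iff.mpr (Subtype.ext (congrArg Subtype.val hcomm2.eq).symm)
      · intro h
        rw [commutatorElement_def, hconj, mul_inv_cancel_right] at h
        exact hZ1 h
    exact mem_center_iff.mpr fun t => mem_centralizer_singleton_iff.mp (htop.ge (mem_top t))
  obtain ⟨m, hm⟩ := hcz P hPc
  have hsm : s₁ ^ p = j Z ^ m := by rw [← map_pow, hm]; rfl
  have hS4 : Nat.card S ≤ p ^ 4 := by
    have hrange : rS.range ≤ zpowers (rS s₁) := by
      rintro _ ⟨t, rfl⟩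
      obtain ⟨n, hn⟩ := hall t
      exact hn ▸ pow_mem (mem_zpowers _) n
    have hker' : Nat.card rS.ker ≤ p ^ 3 := by
      rw [← hN3]
      refine Nat.card_le_card_of_injective (fun t => (⟨((t : S) : Ω), hrS1 _ t.2⟩ : N)) fun t t' e => ?_
      exact Subtype.ext (Subtype.ext (congrArg (fun q : N => (q : Ω)) e :))
    rw [← rS.ker.card_mul_index, index_ker, pow_succ]
    refine Nat.mul_le_mul hker' ((Nat.le_of_dvd Nat.card_pos (card_dvd_of_le hrange)).trans ?_)
    rw [Nat.card_zpowers]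
    refine Nat.le_of_dvd hp.out.pos (orderOf_dvd_of_pow_eq_one ?_)
    exact plane_ext hWc hWe hWm he1 he2 (transvection_pow hWc hWe hWm hu1 hu2 p).1
      (by rw [(transvection_pow hWc hWe hWm hu1 hu2 p).2, hWe, one_mul]; rfl)
  have hcl := PGroup.classThree_of_card_le hS hS4
  have hΨp : Ψ (s₁ ^ p) = (s₁ ^ p) ^ 8 := by
    rw [map_pow, show Ψ s₁ = nn * s₁ ^ 8 by rw [hnn, inv_mul_cancel_right]]
    have hn1 : nn ^ p = 1 := Subtype.ext (by simpa using congrArg Subtype.val (hNexp ⟨_, hnN⟩))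
    rw [PGroup.mul_pow_classThree hp.out hp3 hcl (hn1 ▸ one_mem _)
      (by rw [← pow_mul, mul_comm, pow_mul, hsm]; exact pow_mem (pow_mem (hjc Z hZc) m) 8),
      hn1, one_mul, ← pow_mul, mul_comm, pow_mul]
  have hΨZ : Ψ (j Z) = j Z ^ 2 := by
    rw [← map_pow]
    refine Subtype.ext ?_
    show F' (Z : Ω) = _
    rw [hF'e _ Z.2, autFn_apply α Z.2]
    show ((α Z : N) : Ω) = _
    rw [hαf Z]
    show f (z : Ω) = _
    rw [hfe _ z.2, autFn_apply φ z.2]
    show ((φ z : E) : Ω) = _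
    have hφz' : φ z = z ^ 2 := hφz
    rw [hφz', hZ, ← map_pow]
    rfl
  have h8 : (s₁ ^ p) ^ 8 = (s₁ ^ p) ^ 2 := by
    rw [← hΨp, hsm, map_pow, hΨZ, ← pow_mul, ← pow_mul, mul_comm]
  have h6 : (s₁ ^ p) ^ 6 = 1 := by
    have h' : (s₁ ^ p) ^ 6 * (s₁ ^ p) ^ 2 = 1 * (s₁ ^ p) ^ 2 := by rw [one_mul, ← pow_add, ← h8]
    exact mul_right_cancel h'
  have hs1 : s₁ ^ p = 1 := by
    obtain ⟨k, hk⟩ := hS (s₁ ^ p)
    refine orderOf_eq_one_iff.mp (Nat.eq_one_of_dvd_coprimes ?_ (orderOf_dvd_of_pow_eq_one h6)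
      (orderOf_dvd_of_pow_eq_one hk))
    refine Nat.Coprime.pow_right k ((hp.out.coprime_iff_not_dvd).mpr fun h => ?_).symm
    have := Nat.le_of_dvd (by norm_num) h
    rcases (show p = 5 ∨ p = 6 by omega) with e | e
    · rw [e] at h; norm_num at h
    · exact absurd (e ▸ hp.out) (by norm_num)
  have hsN : (s₁ : Ω) ∈ N := by
    have h : s₁ ∈ N.subgroupOf S := hNΩ ▸ RankTwo.mem_omegaOne hs1
    exact h
  have h1 : rS s₁ = 1 := by
    refine plane_ext hWc hWe hWm he1 he2 hu1 ?_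
    rw [hrS s₁ X (⟨_, hsN⟩ * X * (⟨_, hsN⟩)⁻¹) rfl, map_mul, map_mul, map_inv, hWm (π _) (π X),
      mul_inv_cancel_right]
    rfl
  rw [h1, MulAut.one_apply, right_eq_mul] at hu2
  exact he1 hu2

end Cfsg.Agent.Resist
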