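import Cfsg.Agent.Lib.Resist.CaseA
import Cfsg.Agent.Lib.PGroup.Metacyclic

/-!
# No essential subgroups in rank two, p ≥ 5

`no_essential` : a saturated system over a p-group of rank two, `p ≥ 5`, other than `p^{1+2}` of exponent `p`,
has no essential subgroup.
-/

set_option linter.style.haveILetI false
set_option linter.unusedSectionVars false
set_option autoImplicit false

open Subgroup
open scoped commutatorElement

universe u

namespace Cfsg.Agent.Resist

open Cfsg Cfsg.FusionSystem Cfsg.Agent.Fusion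

variable {p : ℕ} [hp : Fact p.Prime]
variable {Ω : Type u} [Group Ω] {S : Subgroup Ω} [Finite S] {F : FusionSystem S} {E : Subgroup Ω}

/-- The restriction to `Ω₁(E)` has p-group kernel. -/
def omegaAct (hp2 : p ≠ 2) (hS : IsPGroup p S) (hE : F.IsEssential p E) :
    Act p F E (RankTwo.omegaOne p E) :=
  ⟨RankTwo.restrictAut (RankTwo.omegaOne p E), fun α _ hco hα =>
    haveI := finite_of_le (S := S) hE.1.1
    PGroup.aut_eq_one_of_fix_omega hp2 (hS.to_le hE.1.1) hco fun y hy =>
      congrArg Subtype.val (DFunLike.congr_fun hα (⟨y, RankTwo.mem_omegaOne hy⟩ : RankTwo.omegaOne p E))⟩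

theorem pow_formula {E' : Type u} [Group E'] (hcm : ∀ a b : E', a * b = b * a) (u : MulAut E')
    {d1 d2 d3 x : E'} (hx : u x = d1 * x) (h1 : u d1 = d2 * d1) (h2 : u d2 = d3 * d2) (h3 : u d3 = d3) :
    ∀ n : ℕ, (u ^ n) x = x * d1 ^ n * d2 ^ n.choose 2 * d3 ^ n.choose 3 := by
  letI : CommGroup E' := { (inferInstance : Group E') with mul_comm := hcm }
  intro n
  induction n with
  | zero => simp
  | succ n ih =>
    rw [pow_succ', MulAut.mul_apply, ih]
    simp only [map_mul, map_pow, hx, h1, h2, h3]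
    rw [Nat.choose_succ_succ' n 1, Nat.choose_succ_succ' n 2, Nat.choose_one_right]
    simp only [pow_add, pow_one, mul_pow, mul_assoc, mul_comm, mul_left_comm]

theorem no_essential (hp5 : 5 ≤ p) (hS : IsPGroup p S) (hF : F.IsSaturated p) (hr : Cfsg.PRankLE p 2 S)
    (hnotE : ¬ (Nat.card S = p ^ 3 ∧ Monoid.exponent S = p)) : ¬ F.IsEssential p E := by
  intro hE
  have hES := hE.1.1
  have := finite_of_le (S := S) hES
  have hp2 : p ≠ 2 := by omega
  have hp3 : 3 < p := by omega
  have hEP : IsPGroup p E := hS.to_le hES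
  have hrE : Cfsg.PRankLE p 2 E :=
    pRankLE_of_injective (Subgroup.inclusion hES) (Subgroup.inclusion_injective hES) hr
  set Y0 := RankTwo.omegaOne p E with hY0
  obtain ⟨k, hk⟩ := PGroup.exists_subgroup_card_eq_pow hEP Y0
  have hk3 : k ≤ 3 := (Nat.pow_le_pow_iff_right hp.out.one_lt).mp (hk ▸ card_omegaOne_le hp3 hEP hrE)
  let A := omegaAct hp2 hS hE
  have hexp : ∀ y : Y0, y ^ p = 1 := fun y => Subtype.ext (by simpa using RankTwo.omega_exp hp3 hEP hrE y.2)
  obtain ⟨g, hgN, hgE⟩ := SetLike.exists_of_lt (lt_normalizerIn hS le_rfl (lt_of_essential hS hF hE))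
  rcases (show k ≤ 1 ∨ k = 2 ∨ k = 3 by omega) with h | rfl | rfl
  · refine hgE (A.r_eq_one hS hE (g := ⟨g, hgN⟩) ?_)
    obtain ⟨l, hl⟩ := A.exists_pow_r hS hE ⟨g, hgN⟩
    interval_cases k
    · haveI : Subsingleton Y0 := (Nat.card_eq_one_iff_unique.mp (by simpa using hk)).1
      exact MulEquiv.ext fun y => Subsingleton.elim _ _
    · exact aut_prime_trivial (by simpa using hk) _ hl
  swap
  · exact caseA hp5 hS hF hE hr hk
  -- `|Ω₁(E)| = p^2`
  have hcm : ∀ a b : Y0, a * b = b * a :=
    fun a b => (IsPGroup.isMulCommutative_of_card_eq_prime_sq hk).is_comm.comm a b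
  have htop := A.eq_top_of_invariant hS hF hE hk hexp hcm
  -- `E` is abelian
  have hcomm : _root_.commutator E = ⊥ := by
    by_contra hne
    have hcyc := PGroup.isCyclic_commutator_of_smallExponent hp3 _ E hEP
      (PGroup.smallExponent_of_card_omega (p := p) (le_of_eq hk)) le_rfl
    set L := (_root_.commutator E).subgroupOf Y0 with hL
    have hLbot : L ≠ ⊥ := by
      obtain ⟨z, hz, -, hzo⟩ := PGroup.exists_central_order_p hEP hne
      intro hbot
      have hmem : (⟨z, RankTwo.mem_omegaOne (hzo ▸ pow_orderOf_eq_one z)⟩ : Y0) ∈ L := hz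
      rw [hbot, mem_bot] at hmem
      rw [show z = 1 from congrArg Subtype.val hmem, orderOf_one] at hzo
      exact hp.out.ne_one hzo.symm
    have hLtop := htop L hLbot fun γ _ y hy =>
      (PGroup.aut_mem_iff (H := _root_.commutator E) γ (y : E)).mpr hy
    have hY : IsCyclic Y0 := by
      let f : Y0 →* _root_.commutator E :=
        MonoidHom.mk' (fun y => ⟨(y : E), (hLtop.ge (mem_top y) :)⟩) fun a b => rfl
      exact isCyclic_of_injective f fun a b e => Subtype.ext (congrArg (fun q : _root_.commutator E => (q : E)) e :)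
    obtain ⟨y, hy⟩ := IsCyclic.exists_generator (α := Y0)
    have h1 : Nat.card Y0 ∣ p := by
      rw [← Nat.card_congr (Subgroup.topEquiv (G := Y0)).toEquiv,
        ← show zpowers y = ⊤ from eq_top_iff.mpr fun t _ => hy t, Nat.card_zpowers]
      exact orderOf_dvd_of_pow_eq_one (hexp y)
    rw [hk] at h1
    have := Nat.le_of_dvd hp.out.pos h1
    have : p ^ 1 < p ^ 2 := Nat.pow_lt_pow_right hp.out.one_lt (by norm_num)
    rw [pow_one] at this
    omega
  have hEcm : ∀ a b : E, a * b = b * a := fun a b => commutatorElement_eq_one_iff_mul_comm.mp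
    (mem_bot.mp (hcomm ▸ commutator_mem_commutator (mem_top a) (mem_top b)))
  -- exponent `p`
  have hexpE : ∀ x : E, x ^ p = 1 := by
    by_contra hne
    push Not at hne
    obtain ⟨x, hx⟩ := hne
    obtain ⟨l, hl⟩ := hEP x
    obtain ⟨q, hq, hqo⟩ := (Nat.dvd_prime_pow hp.out).mp (orderOf_dvd_of_pow_eq_one hl)
    have hq2 : 2 ≤ q := by
      by_contra hq2
      refine hx (orderOf_dvd_iff_pow_eq_one.mp ?_)
      rw [hqo]
      exact (pow_dvd_pow p (by omega : q ≤ 1)).trans (by rw [pow_one])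
    -- the p-th powers of the elements of order at most `p^2`
    let L : Subgroup Y0 :=
      { carrier := {v | ∃ e : E, e ^ p ^ 2 = 1 ∧ e ^ p = v}
        one_mem' := ⟨1, one_pow _, one_pow _⟩
        mul_mem' := by
          rintro _ _ ⟨e, he, he'⟩ ⟨e', h1, h2⟩
          exact ⟨e * e', by rw [Commute.mul_pow (hEcm e e'), he, h1, one_mul],
            by rw [Commute.mul_pow (hEcm e e'), he', h2]; rfl⟩
        inv_mem' := by
          rintro _ ⟨e, he, he'⟩
          exact ⟨e⁻¹, by rw [inv_pow, he, inv_one], by rw [inv_pow, he']; rfl⟩ }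
    have hL : L ≠ ⊥ := by
      set e := x ^ p ^ (q - 2) with he
      have hep : e ^ p ^ 2 = 1 := by
        rw [he, ← pow_mul, ← pow_add, show q - 2 + 2 = q by omega, ← hqo, pow_orderOf_eq_one]
      have hep1 : e ^ p ≠ 1 := by
        rw [he, ← pow_mul, ← pow_succ]
        intro h
        have := orderOf_dvd_of_pow_eq_one h
        rw [hqo, Nat.pow_dvd_pow_iff_le_right hp.out.one_lt] at this
        omega
      intro hbot
      have hmem : (⟨e ^ p, RankTwo.mem_omegaOne (by rw [← pow_mul, ← pow_two]; exact hep)⟩ : Y0) ∈ L :=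
        ⟨e, hep, rfl⟩
      rw [hbot, mem_bot] at hmem
      exact hep1 (congrArg Subtype.val hmem)
    have hLtop := htop L hL fun γ _ v ⟨e, he, he'⟩ =>
      ⟨γ e, by rw [← map_pow, he, map_one], (map_pow γ e p).symm.trans (congrArg γ he')⟩
    obtain ⟨i, e1, e2, he1, he2, -, -, hr1, hr2, -⟩ :=
      A.core hS hF hE hk hexp hcm hp5 (g := ⟨g, hgN⟩) hgE
    set a := (⟨g, hgN⟩ : normalizerIn S E) ^ i
    set u := normConj S E a with hu
    have hup : u ^ p = 1 := by
      obtain ⟨r, hr'⟩ := A.ker_le_inn hS hE (α := u ^ p) (pow_mem (normConj_mem F hES a).2 p) (by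
        rw [map_pow]
        show A.r a ^ p = 1
        exact plane_ext hk hexp hcm he1 he2 (transvection_pow hk hexp hcm hr1 hr2 p).1
          (by rw [(transvection_pow hk hexp hcm hr1 hr2 p).2, hexp, one_mul]; rfl))
      rw [← hr']
      exact MulEquiv.ext fun t => by
        show r * t * r⁻¹ = t
        rw [hEcm r t, mul_inv_cancel_right]
    obtain ⟨e, hep, he⟩ : e2 ∈ L := hLtop.ge (mem_top e2)
    have hT : ∀ y y' : Y0, A.r a y = y' → u (y : E) = (y' : E) := fun y y' h => congrArg Subtype.val h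
    set d1 := u e * e⁻¹ with hd1
    have hd1e : u e = d1 * e := (inv_mul_cancel_right _ _).symm
    have hd1p : d1 ^ p = (e1 : E) := by
      rw [hd1, Commute.mul_pow (hEcm _ _), ← map_pow, inv_pow, he, hT e2 _ hr2]
      simp
    set d2 := u d1 * d1⁻¹ with hd2
    have hd2p : d2 ^ p = 1 := by
      rw [hd2, Commute.mul_pow (hEcm _ _), ← map_pow, inv_pow, hd1p, hT e1 _ hr1, mul_inv_cancel]
    set d3 := u d2 * d2⁻¹ with hd3
    obtain ⟨ka, hka⟩ := A.exists_pow_r hS hE a
    obtain ⟨j, hj⟩ := mem_zpowers_iff.mp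
      (plane_transvection hk hexp hcm he1 (A.r a) hka hr1 ⟨d2, RankTwo.mem_omegaOne hd2p⟩)
    have hd3e : d3 = ((e1 ^ j : Y0) : E) := by rw [hj]; rfl
    have hd3f : u d3 = d3 := by
      rw [hd3e]
      exact hT _ _ (by rw [map_zpow, hr1])
    have hd3p : d3 ^ p = 1 := by rw [hd3e, ← SubmonoidClass.coe_pow, hexp]; rfl
    have h := pow_formula hEcm u hd1e (inv_mul_cancel_right _ _).symm (inv_mul_cancel_right _ _).symm hd3f p
    obtain ⟨c2, hc2⟩ := hp.out.dvd_choose_self (k := 2) (by norm_num) (by omega)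
    obtain ⟨c3, hc3⟩ := hp.out.dvd_choose_self (k := 3) (by norm_num) (by omega)
    rw [hup, MulAut.one_apply, hc2, hc3, pow_mul, pow_mul, ← hd2, ← hd3, hd2p, hd3p, one_pow, one_pow, mul_one, mul_one,
      left_eq_mul, hd1p] at h
    exact he1 (Subtype.ext h)
  have hEcard : Nat.card E = p ^ 2 := by
    rw [← hk, show Y0 = ⊤ from eq_top_iff.mpr fun x _ => RankTwo.mem_omegaOne (hexpE x), card_top]
  exact hnotE (caseB hp5 hS hF hE hr hEcard hexpE)

end Cfsg.Agent.Resist
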